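import Groth.Agent.H27CurveHilb.Descend
import Mathlib

/-! # Ideals cut out by generic subspaces of a layer at a rational point -/

set_option autoImplicit false
set_option linter.style.haveILetI false

universe u

open TensorProduct

namespace Groth.Agent.H27ConeHilb

open H27Fogarty (evPt qI qI_surjective ker_qI)
open H27HilbAff (bc bc_tmul)

variable {k : Type u} [Field k] {B : Type u} [CommRing B] [Algebra k B]

/-- The layer: an independent family in `B / I₀` killed by the maximal ideal of a rational point. -/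
structure Layer (B : Type u) [CommRing B] [Algebra k B] (ι : Type) where
  ε : B →ₐ[k] k
  I₀ : Ideal B
  b : ι → B
  indep : LinearIndependent k fun i => Ideal.Quotient.mk I₀ (b i)
  kill : ∀ i x, Ideal.Quotient.mk I₀ (x * b i) = ε x • Ideal.Quotient.mk I₀ (b i)

variable {c d : ℕ} (S : Layer (k := k) B (Fin c ⊕ Fin d)) {K : Type u} [Field K] [Algebra k K]

/-- The classes of the layer over `K`. -/
noncomputable def cl (i : Fin c ⊕ Fin d) : K ⊗[k] (B ⧸ S.I₀) := 1 ⊗ₜ Ideal.Quotient.mk S.I₀ (S.b i)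

/-- The spanning vectors of the subspace with parameters `T`. -/
noncomputable def row (T : Fin c × Fin d → K) (u : Fin c) : K ⊗[k] (B ⧸ S.I₀) :=
  cl S (.inl u) + ∑ v, T (u, v) • cl S (.inr v)

theorem qI_mul_cl (z : K ⊗[k] B) (i : Fin c ⊕ Fin d) :
    qI K S.I₀ z * cl S i = evPt ((Algebra.ofId k K).comp S.ε) z • cl (K := K) S i := by
  induction z using TensorProduct.induction_on with
  | zero => simp
  | tmul a x =>
    show (a ⊗ₜ[k] Ideal.Quotient.mk S.I₀ x) * cl S i = _
    rw [cl, Algebra.TensorProduct.tmul_mul_tmul, mul_one, ← map_mul, S.kill, TensorProduct.tmul_smul,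
      H27Fogarty.evPt_tmul, TensorProduct.smul_tmul', TensorProduct.smul_tmul']
    congr 1
    simp [Algebra.smul_def, Algebra.ofId_apply, mul_comm]
  | add x y hx hy => simp only [map_add, add_mul, add_smul, hx, hy]

theorem qI_mul_row (z : K ⊗[k] B) (T : Fin c × Fin d → K) (u : Fin c) :
    qI K S.I₀ z * row S T u = evPt ((Algebra.ofId k K).comp S.ε) z • row S T u := by
  simp only [row, mul_add, Finset.mul_sum, mul_smul_comm, qI_mul_cl, smul_add, Finset.smul_sum]
  congr 1
  exact Finset.sum_congr rfl fun v _ => smul_comm _ _ _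

/-- The ideal of the subscheme with parameters `T`. -/
noncomputable def layerIdeal (T : Fin c × Fin d → K) : Ideal (K ⊗[k] B) where
  carrier := {z | qI K S.I₀ z ∈ Submodule.span K (Set.range (row S T))}
  add_mem' := fun ha hb => by
    simp only [Set.mem_setOf_eq, map_add] at *
    exact add_mem ha hb
  zero_mem' := by simp
  smul_mem' := fun w z hz => by
    simp only [Set.mem_setOf_eq, smul_eq_mul, map_mul] at *
    generalize hq : qI K S.I₀ z = q at hz ⊢
    clear hq
    induction hz using Submodule.span_induction with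
    | mem x hx =>
      obtain ⟨u, rfl⟩ := hx
      rw [qI_mul_row]
      exact Submodule.smul_mem _ _ (Submodule.subset_span ⟨u, rfl⟩)
    | zero => simp
    | add x y _ _ hx hy => rw [mul_add]; exact add_mem hx hy
    | smul a x _ hx => rw [mul_smul_comm]; exact Submodule.smul_mem _ a hx

theorem mem_layerIdeal {T : Fin c × Fin d → K} {z : K ⊗[k] B} :
    z ∈ layerIdeal S T ↔ qI K S.I₀ z ∈ Submodule.span K (Set.range (row S T)) := Iff.rfl

theorem ext_le_layerIdeal (T : Fin c × Fin d → K) : H27Fogarty.ext (k := k) K S.I₀ ≤ layerIdeal S T := fun z hz => by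
  rw [← ker_qI, RingHom.mem_ker] at hz
  rw [mem_layerIdeal, hz]
  exact zero_mem _

/-- Coordinates along the layer. -/
theorem exists_coord : ∃ cc : K ⊗[k] (B ⧸ S.I₀) →ₗ[K] (Fin c ⊕ Fin d → K), ∀ i, cc (cl S i) = Pi.single i 1 := by
  classical
  let f : (Fin c ⊕ Fin d → k) →ₗ[k] B ⧸ S.I₀ :=
    Fintype.linearCombination k (fun i => Ideal.Quotient.mk S.I₀ (S.b i))
  have hf : LinearMap.ker f = ⊥ :=
    LinearMap.ker_eq_bot.2 (S.indep.fintypeLinearCombination_injective)
  obtain ⟨g, hg⟩ := f.exists_leftInverse_of_injective hf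
  refine ⟨((LinearMap.compLeft (Algebra.linearMap k K) _).comp g).liftBaseChange K, fun i => ?_⟩
  have h1 : g (Ideal.Quotient.mk S.I₀ (S.b i)) = Pi.single i 1 := by
    have h2 : f (Pi.single i 1) = Ideal.Quotient.mk S.I₀ (S.b i) := by
      simp [f, Fintype.linearCombination_apply_single]
    rw [← h2]
    exact LinearMap.congr_fun hg _
  ext j
  simp [cl, h1, Pi.single_apply, apply_ite (algebraMap k K)]

theorem coord_of_mem {cc : K ⊗[k] (B ⧸ S.I₀) →ₗ[K] (Fin c ⊕ Fin d → K)} (hcc : ∀ i, cc (cl S i) = Pi.single i 1)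
    {T : Fin c × Fin d → K} {q : K ⊗[k] (B ⧸ S.I₀)} (hq : q ∈ Submodule.span K (Set.range (row S T))) (v : Fin d) :
    cc q (.inr v) = ∑ u, cc q (.inl u) * T (u, v) := by
  classical
  induction hq using Submodule.span_induction with
  | mem x hx =>
    obtain ⟨u, rfl⟩ := hx
    simp [row, hcc, Pi.single_apply, Finset.sum_add_distrib, add_mul, Finset.sum_apply]
  | zero => simp
  | add x y _ _ hx hy => simp only [map_add, Pi.add_apply, hx, hy, add_mul, Finset.sum_add_distrib]
  | smul a x _ hx => simp only [map_smul, Pi.smul_apply, smul_eq_mul, hx, Finset.mul_sum, mul_assoc]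

theorem linearIndependent_row (T : Fin c × Fin d → K) : LinearIndependent K (row S T) := by
  classical
  obtain ⟨cc, hcc⟩ := exists_coord (K := K) S
  rw [Fintype.linearIndependent_iff]
  intro g hg u
  have := congrFun (congrArg cc hg) (.inl u)
  simpa [row, map_sum, hcc, Pi.single_apply, Finset.sum_apply, Finset.sum_add_distrib, mul_add] using this

theorem layerIdeal_quot [Module.Finite k (B ⧸ S.I₀)] (T : Fin c × Fin d → K) :
    Module.Finite K ((K ⊗[k] B) ⧸ layerIdeal S T) ∧
      Module.finrank K ((K ⊗[k] B) ⧸ layerIdeal S T) + c = Module.finrank k (B ⧸ S.I₀) := by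
  let V := Submodule.span K (Set.range (row S T))
  let E : K ⊗[k] B →ₗ[K] (K ⊗[k] (B ⧸ S.I₀)) ⧸ V := V.mkQ.comp (qI K S.I₀).toLinearMap
  have hE : Function.Surjective E := V.mkQ_surjective.comp (qI_surjective K S.I₀)
  have hker : LinearMap.ker E = (layerIdeal S T).restrictScalars K := by
    ext z
    rw [LinearMap.mem_ker, Submodule.restrictScalars_mem, mem_layerIdeal]
    exact Submodule.Quotient.mk_eq_zero V
  let e : ((K ⊗[k] B) ⧸ layerIdeal S T) ≃ₗ[K] (K ⊗[k] (B ⧸ S.I₀)) ⧸ V :=
    (Submodule.Quotient.restrictScalarsEquiv K _).symm ≪≫ₗ Submodule.quotEquivOfEq _ _ hker.symm ≪≫ₗ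
      E.quotKerEquivOfSurjective hE
  haveI : Module.Finite K ((K ⊗[k] B) ⧸ layerIdeal S T) := Module.Finite.equiv e.symm
  refine ⟨inferInstance, ?_⟩
  have hV : Module.finrank K V = c := by
    rw [finrank_span_eq_card (linearIndependent_row S T), Fintype.card_fin]
  have h := Submodule.finrank_quotient_add_finrank V
  rw [Module.finrank_baseChange] at h
  rw [e.finrank_eq]
  omega

variable {e : ℕ} (g : B) (χ : Fin e → (B →ₐ[k] K))

/-- The layer ideal together with extra points. -/
noncomputable def fullIdeal (T : Fin c × Fin d → K) : Option (Fin e) → Ideal (K ⊗[k] B)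
  | none => layerIdeal S T
  | some i => RingHom.ker (evPt (χ i))

theorem fullIdeal_coprime (hg0 : Ideal.Quotient.mk S.I₀ g = 1) (hgχ : ∀ i, χ i g = 0)
    (hχ : Function.Injective χ) (T : Fin c × Fin d → K) :
    Pairwise fun i j => IsCoprime (fullIdeal S χ T i) (fullIdeal S χ T j) := by
  have hn : ∀ i, IsCoprime (layerIdeal S T) (RingHom.ker (evPt (χ i))) := fun i => by
    rw [Ideal.isCoprime_iff_exists]
    refine ⟨(1 : K) ⊗ₜ[k] (1 - g), ext_le_layerIdeal S T (Ideal.mem_map_of_mem _ ?_), (1 : K) ⊗ₜ[k] g, ?_, ?_⟩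
    · rw [← Ideal.Quotient.eq_zero_iff_mem, map_sub, map_one, hg0, sub_self]
    · simp [RingHom.mem_ker, hgχ]
    · rw [← TensorProduct.tmul_add, sub_add_cancel]
      rfl
  rintro (_ | i) (_ | j) hij
  · exact absurd rfl hij
  · exact hn j
  · exact (hn i).symm
  · exact H27CurveHilb.pairwise_coprime_locIdeal χ hχ 1 (fun i => RingHom.ker (evPt (χ i)))
      (fun i => (pow_one _).le) (fun h => hij (congrArg some h))

theorem fullIdeal_quot [Module.Finite k (B ⧸ S.I₀)] (hg0 : Ideal.Quotient.mk S.I₀ g = 1) (hgχ : ∀ i, χ i g = 0)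
    (hχ : Function.Injective χ) (T : Fin c × Fin d → K) :
    Module.Finite K ((K ⊗[k] B) ⧸ ∏ i, fullIdeal S χ T i) ∧ Module.Free K ((K ⊗[k] B) ⧸ ∏ i, fullIdeal S χ T i) ∧
      Module.finrank K ((K ⊗[k] B) ⧸ ∏ i, fullIdeal S χ T i) + c = Module.finrank k (B ⧸ S.I₀) + e := by
  obtain ⟨h1, h2⟩ := layerIdeal_quot S T
  let eK : ∀ i, ((K ⊗[k] B) ⧸ RingHom.ker (evPt (χ i))) ≃ₗ[K] K := fun i =>
    (Ideal.quotientKerAlgEquivOfSurjective (f := evPt (χ i)) (fun a => ⟨a ⊗ₜ (1 : B), by simp⟩)).toLinearEquiv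
  haveI : ∀ i, Module.Finite K ((K ⊗[k] B) ⧸ fullIdeal S χ T i) := fun i => by
    cases i with
    | none => exact h1
    | some i => exact Module.Finite.equiv (eK i).symm
  obtain ⟨hf, hr⟩ := H27CurveHilb.finite_quot_prod (L := K) (fullIdeal S χ T) (fullIdeal_coprime S g χ hg0 hgχ hχ T)
  refine ⟨hf, inferInstance, ?_⟩
  have hs : ∀ i, Module.finrank K ((K ⊗[k] B) ⧸ fullIdeal S χ T (some i)) = 1 := fun i =>
    (eK i).finrank_eq.trans (Module.finrank_self K)
  rw [hr, Fintype.sum_option, Finset.sum_congr rfl fun i _ => hs i]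
  simp only [Finset.sum_const, Finset.card_univ, Fintype.card_fin, smul_eq_mul, mul_one]
  show Module.finrank K ((K ⊗[k] B) ⧸ layerIdeal S T) + e + c = _
  omega

theorem mem_fullIdeal_iff (hg0 : Ideal.Quotient.mk S.I₀ g = 1) (hgχ : ∀ i, χ i g = 0)
    (hχ : Function.Injective χ) (T : Fin c × Fin d → K) {z : K ⊗[k] B} :
    z ∈ ∏ i, fullIdeal S χ T i ↔ z ∈ layerIdeal S T ∧ ∀ i, z ∈ RingHom.ker (evPt (χ i)) := by
  rw [Ideal.prod_eq_iInf_of_pairwise_isCoprime fun i _ j _ hij => fullIdeal_coprime S g χ hg0 hgχ hχ T hij]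
  simp [Option.forall, fullIdeal]

/-- The parameters lie in every field of definition. -/
theorem param_mem_range (hg0 : Ideal.Quotient.mk S.I₀ g = 1) (hgχ : ∀ i, χ i g = 0) (hχ : Function.Injective χ)
    (T : Fin c × Fin d → K) {L : Type u} [Field L] [Algebra k L] (φ : L →ₐ[k] K) (JL : Ideal (L ⊗[k] B))
    (hJ : JL.map (bc φ) = ∏ i, fullIdeal S χ T i) (p : Fin c × Fin d) : ∃ l, φ l = T p := by
  classical
  obtain ⟨u, v⟩ := p
  letI := φ.toRingHom.toAlgebra
  haveI : IsScalarTower k L K := IsScalarTower.of_algebraMap_eq fun r => (φ.commutes r).symm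
  obtain ⟨σ, hσ⟩ := (Algebra.linearMap L K).exists_leftInverse_of_injective
    (LinearMap.ker_eq_bot.2 φ.toRingHom.injective)
  have hσ1 : ∀ a, σ (φ a) = a := LinearMap.congr_fun hσ
  let σB : K ⊗[k] B →ₗ[k] L ⊗[k] B := TensorProduct.map (σ.restrictScalars k) LinearMap.id
  have hlin : ∀ (w : L ⊗[k] B) (x : K ⊗[k] B), σB (bc φ w * x) = w * σB x := fun w x => by
    induction w using TensorProduct.induction_on with
    | zero => simp
    | tmul a b =>
      induction x using TensorProduct.induction_on with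
      | zero => simp
      | tmul κ b' =>
        have : σ (φ a * κ) = a * σ κ := by
          rw [show φ a * κ = a • κ from (Algebra.smul_def a κ).symm, map_smul, smul_eq_mul]
        simp [σB, this]
      | add x y hx hy => simp only [mul_add, map_add, hx, hy]
    | add x y hx hy => simp only [map_add, add_mul, hx, hy]
  have hmem' : ∀ x ∈ JL.map (bc φ), ∀ y, σB (y * x) ∈ JL := fun x hx => by
    induction hx using Submodule.span_induction with
    | mem x hx =>
      obtain ⟨w, hw, rfl⟩ := hx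
      intro y
      rw [mul_comm, hlin]
      exact Ideal.mul_mem_right _ _ hw
    | zero => simp
    | add x x' _ _ hx hx' => intro y; rw [mul_add, map_add]; exact add_mem (hx y) (hx' y)
    | smul a x _ hx => intro y; rw [smul_eq_mul, ← mul_assoc]; exact hx _
  have hmem : ∀ x ∈ JL.map (bc φ), σB x ∈ JL := fun x hx => one_mul x ▸ hmem' x hx 1
  let z : (Fin c ⊕ Fin d → K) → K ⊗[k] B := fun a => ∑ i, a i ⊗ₜ[k] (g * S.b i)
  have hz : ∀ a, qI K S.I₀ (z a) = ∑ i, a i • cl S i := fun a => by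
    simp only [z, map_sum]
    refine Finset.sum_congr rfl fun i _ => ?_
    show a i ⊗ₜ[k] Ideal.Quotient.mk S.I₀ (g * S.b i) = _
    rw [map_mul, hg0, one_mul, cl, TensorProduct.smul_tmul', smul_eq_mul, mul_one]
  have hzv : ∀ a i, evPt (χ i) (z a) = 0 := fun a i => by simp [z, hgχ]
  let a₀ : Fin c ⊕ Fin d → K := Pi.single (.inl u) 1 + ∑ v', T (u, v') • Pi.single (.inr v') 1
  have h0 : z a₀ ∈ ∏ i, fullIdeal S χ T i := by
    rw [mem_fullIdeal_iff S g χ hg0 hgχ hχ]
    refine ⟨(mem_layerIdeal S).2 ?_, fun i => hzv _ i⟩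
    rw [hz, show ∑ i, a₀ i • cl (K := K) S i = row S T u by
      simp [a₀, row, Fintype.sum_sum_type, Pi.single_apply, Finset.sum_apply]]
    exact Submodule.subset_span ⟨u, rfl⟩
  have h1 : z (fun i => φ (σ (a₀ i))) ∈ ∏ i, fullIdeal S χ T i := by
    rw [← hJ] at h0 ⊢
    have h2 := Ideal.mem_map_of_mem (bc φ) (hmem _ h0)
    simpa [z, σB, map_sum] using h2
  obtain ⟨cc, hcc⟩ := exists_coord (K := K) S
  have h3 := coord_of_mem S hcc ((mem_layerIdeal S).1 ((mem_fullIdeal_iff S g χ hg0 hgχ hχ T).1 h1).1) v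
  rw [hz] at h3
  simp only [map_sum, map_smul, hcc, Finset.sum_apply, Pi.smul_apply, Pi.single_apply, smul_eq_mul, mul_ite, mul_one,
    mul_zero, Finset.sum_ite_eq, Finset.mem_univ, if_true] at h3
  have hs1 : σ (1 : K) = 1 := by rw [← map_one φ, hσ1]
  refine ⟨σ (T (u, v)), ?_⟩
  have ha : a₀ (.inr v) = T (u, v) := by simp [a₀, Finset.sum_apply, Pi.single_apply]
  have hb : ∀ u', a₀ (.inl u') = if u' = u then 1 else 0 := fun u' => by
    simp [a₀, Finset.sum_apply, Pi.single_apply]
  rw [ha] at h3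
  rw [h3]
  simp [hb, apply_ite φ, apply_ite σ, hs1]

/-- A field of definition has transcendence degree at least the number of parameters. -/
theorem mul_le_trdeg (hg0 : Ideal.Quotient.mk S.I₀ g = 1) (hgχ : ∀ i, χ i g = 0) (hχ : Function.Injective χ)
    {T : Fin c × Fin d → K} (hT : AlgebraicIndependent k T) {L : Type u} [Field L] [Algebra k L] (φ : L →ₐ[k] K)
    (JL : Ideal (L ⊗[k] B)) (hJ : JL.map (bc φ) = ∏ i, fullIdeal S χ T i) {n : ℕ}
    (hn : Algebra.trdeg k L = n) : c * d ≤ n := by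
  choose l hl using param_mem_range S g χ hg0 hgχ hχ T φ JL hJ
  have hl' : AlgebraicIndependent k l := by
    refine AlgebraicIndependent.of_comp φ ?_
    rwa [show φ ∘ l = T from funext hl]
  have h1 := hl'.lift_cardinalMk_le_trdeg
  rw [hn, Cardinal.mk_fintype, Cardinal.lift_natCast, Cardinal.lift_natCast, Nat.cast_le, Fintype.card_prod,
    Fintype.card_fin, Fintype.card_fin] at h1
  exact h1

end Groth.Agent.H27ConeHilb
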