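import Groth.Agent.H27ConeHilb.Cone
import Groth.Agent.H10Coh.CI.Regular
import Groth.Agent.H25Transversal.Main
import Groth.Agent.H22Alg.VarDim
import Groth.Agent.H11Ample.ToPn
import Groth.Agent.H27CurveHilb.Points

/-! # The vertex chart of a cone -/

set_option autoImplicit false
set_option linter.style.haveILetI false
set_option backward.isDefEq.respectTransparency false
set_option backward.isDefEq.respectTransparency.types false

universe u

open CategoryTheory AlgebraicGeometry TopologicalSpace

namespace Groth.Agent.H27ConeHilb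

noncomputable section

variable {k : Type u} [Field k] {N : ℕ}

theorem polyToSection_eq_zero {i : Fin (N + 1)} {F : MvPolynomial (Fin (N + 1)) k}
    (h : H25Transversal.polyToSection N k i F = 0) : H11Proj.ProjSpace.dehom N k i F = 0 := by
  haveI : IsIso (Proj.awayToSection (CohB1.polyGrading N k) (MvPolynomial.X i)) :=
    inferInstanceAs (IsIso (Proj.basicOpenIsoAway _ _ (LefPen.X_mem N k i) one_pos).hom)
  have h1 : H11Proj.awayProjHom (CohB1.polyGrading N k) (LefPen.X_mem N k i) F = 0 :=
    (ConcreteCategory.bijective_of_isIso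
      (Proj.awayToSection (CohB1.polyGrading N k) (MvPolynomial.X i))).1 (h.trans (map_zero _).symm)
  rw [← RingHom.congr_fun (H11Proj.ProjSpace.chartInv_awayProjHom N k i) F, RingHom.comp_apply]
  exact (congrArg _ h1).trans (map_zero _)

theorem dh_eq (F : MvPolynomial (Fin (N + 1)) k) :
    dh (k := k) (N := N) F = MvPolynomial.aeval
      (fun j : {j : Fin (N + 1) // j ≠ Fin.last N} => (Fin.snoc MvPolynomial.X 1 : Fin (N + 1) → MvPolynomial (Fin N) k) j.1)
      (H11Proj.ProjSpace.dehom N k (Fin.last N) F) := by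
  induction F using MvPolynomial.induction_on with
  | C c => simp [dh, H11Proj.ProjSpace.dehom]
  | add p q hp hq => simp only [map_add, hp, hq]
  | mul_X p j hp =>
    simp only [map_mul, hp]
    congr 1
    by_cases hj : j = Fin.last N
    · subst hj; simp [dh, H11Proj.ProjSpace.dehom]
    · simp [dh, H11Proj.ProjSpace.dehom, hj]

variable {m : ℕ} {a : Fin m → ℕ} (G : ∀ j, LefPen.Form N k (a j))
  (hG : ∀ j, ∀ mono ∈ (G j).1.support, mono (Fin.last N) = 0)

include hG in
theorem exists_restrict (j : Fin m) : ∃ g : MvPolynomial (Fin N) k,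
    g.IsHomogeneous (a j) ∧ MvPolynomial.rename Fin.castSucc g = (G j).1 := by
  classical
  obtain ⟨g, hg⟩ := (MvPolynomial.exists_rename_eq_of_vars_subset_range (G j).1 Fin.castSucc
    (Fin.castSucc_injective N) fun i hi => by
      obtain ⟨mono, hm, hi'⟩ := (MvPolynomial.mem_vars_iff_mem_support i).1 hi
      refine ⟨i.castPred fun e => Finsupp.mem_support_iff.1 hi' (e ▸ hG j mono hm), Fin.castSucc_castPred _ _⟩)
  exact ⟨g, (MvPolynomial.IsHomogeneous.rename_isHomogeneous_iff (Fin.castSucc_injective N)).1 (hg.symm ▸ (G j).2), hg⟩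

theorem isHomogeneous_span_forms {g : Fin m → MvPolynomial (Fin N) k} (hg : ∀ j, (g j).IsHomogeneous (a j))
    {P : MvPolynomial (Fin N) k} (hP : P ∈ Ideal.span (Set.range g)) (i : ℕ) :
    MvPolynomial.homogeneousComponent i P ∈ Ideal.span (Set.range g) := by
  letI := MvPolynomial.gradedAlgebra (R := k) (σ := Fin N)
  have h := Ideal.homogeneous_span (MvPolynomial.homogeneousSubmodule (Fin N) k) (Set.range g)
    (by rintro _ ⟨j, rfl⟩; exact ⟨a j, hg j⟩) i hP
  rwa [show (DirectSum.decompose (MvPolynomial.homogeneousSubmodule (Fin N) k) P i : MvPolynomial (Fin N) k) =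
    MvPolynomial.homogeneousComponent i P from MvPolynomial.decomposition.decompose'_apply P i] at h

variable {X : Scheme.{u}} [X.Over (Spec (CommRingCat.of k))] [IsIntegral X]
  (ι : X ⟶ CohB1.ProjSpace N k) [IsClosedImmersion ι]

/-- The vertex chart. -/
def vopen : X.Opens := ι ⁻¹ᵁ LefPen.chart N k (Fin.last N)

theorem isAffineOpen_vopen : IsAffineOpen (vopen ι) := (H25Transversal.chartU N k (Fin.last N)).2.preimage ι

include hG in
theorem exists_chart {n : ℕ} (hιk : ι ≫ CohB1.ProjSpace.toSpec N k = X ↘ (Spec (CommRingCat.of k)))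
    (hker : ι.ker = LefPen.ciIdeal G) (hdim : topologicalKrullDim X = n) :
    ∃ (_ : IsDomain Γ(X, vopen ι)) (_ : Algebra k Γ(X, vopen ι)) (_ : Algebra.FiniteType k Γ(X, vopen ι))
      (π : MvPolynomial (Fin N) k →ₐ[k] Γ(X, vopen ι)),
      (isAffineOpen_vopen ι).fromSpec ≫ (X ↘ (Spec (CommRingCat.of k))) =
        H27HilbAff.fB (R := k) (B := Γ(X, vopen ι)) (𝟙 (Spec (CommRingCat.of k))) ≫ 𝟙 (Spec (CommRingCat.of k)) ∧
      IsConePres π ∧ ringKrullDim Γ(X, vopen ι) = n ∧ Nonempty (vopen ι) ∧
      ∀ F, π (dh (k := k) (N := N) F) = ι.app (LefPen.chart N k (Fin.last N)) (H25Transversal.polyToSection N k (Fin.last N) F) := by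
  classical
  choose g hgh hg using exists_restrict G hG
  have hdhG : ∀ j, dh (k := k) (N := N) (G j).1 = g j := fun j => by rw [← hg, dh_rename]
  let U := LefPen.chart N k (Fin.last N)
  let Ψ : MvPolynomial (Fin (N + 1)) k →+* Γ(X, vopen ι) :=
    (ι.app U).hom.comp (H25Transversal.polyToSection N k (Fin.last N))
  have hΨs : Function.Surjective Ψ :=
    (ι.app_surjective U (H25Transversal.chartU N k (Fin.last N)).2).comp (H25Transversal.polyToSection_surjective _)
  have hΨker : ∀ F, Ψ F = 0 → dh (k := k) (N := N) F ∈ Ideal.span (Set.range g) := fun F hF => by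
    have h1 : H25Transversal.polyToSection N k (Fin.last N) F ∈
        Ideal.span (Set.range fun j => LefPen.dehom (G j) (Fin.last N)) := by
      rw [← H10Coh.CI.ciIdeal_chart, ← hker, Scheme.Hom.ker_apply]
      exact hF
    rw [show (Set.range fun j => LefPen.dehom (G j) (Fin.last N)) =
      H25Transversal.polyToSection N k (Fin.last N) '' Set.range (fun j => (G j).1) by
        rw [← Set.range_comp]; exact congrArg Set.range (funext fun j => (H25Transversal.polyToSection_form (G j) _).symm),
      ← Ideal.map_span, Ideal.mem_map_iff_of_surjective _ (H25Transversal.polyToSection_surjective _)] at h1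
    obtain ⟨F', hF', he⟩ := h1
    have h2 : dh (k := k) (N := N) (F - F') = 0 := by
      rw [dh_eq, polyToSection_eq_zero (by rw [map_sub, he, sub_self]), map_zero]
    rw [map_sub, sub_eq_zero] at h2
    rw [h2, show Set.range g = dh (k := k) (N := N) '' Set.range (fun j => (G j).1) by
      rw [← Set.range_comp]; exact congrArg Set.range (funext fun j => (hdhG j).symm), ← Ideal.map_span]
    exact Ideal.mem_map_of_mem _ hF'
  -- the chart is not empty
  have hne : Nonempty (vopen ι) := by
    by_contra hemp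
    have h1 : (1 : Γ(X, vopen ι)) = 0 := by
      have hbot : vopen ι = ⊥ := le_bot_iff.1 fun x hx => (hemp ⟨⟨x, hx⟩⟩).elim
      haveI : Subsingleton Γ(X, vopen ι) := by
        rw [hbot]; exact inferInstance
      exact Subsingleton.elim _ _
    have h1' : (1 : MvPolynomial (Fin N) k) ∈ Ideal.span (Set.range g) :=
      map_one (dh (k := k) (N := N)) ▸ hΨker 1 ((map_one Ψ).trans h1)
    obtain ⟨j, hj⟩ : ∃ j, MvPolynomial.constantCoeff (g j) ≠ 0 := by
      by_contra hall
      push Not at hall
      have : Ideal.span (Set.range g) ≤ RingHom.ker (MvPolynomial.constantCoeff (R := k) (σ := Fin N)) :=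
        Ideal.span_le.2 (by rintro _ ⟨j, rfl⟩; exact hall j)
      simpa using RingHom.mem_ker.1 (this h1')
    have ha : a j = 0 := by
      by_contra hne'
      rw [MvPolynomial.constantCoeff_eq] at hj
      have := hgh j hj
      simp at this
      exact hne' this.symm
    have hC : (G j).1 = MvPolynomial.C (MvPolynomial.constantCoeff (g j)) := by
      have h0 := (MvPolynomial.totalDegree_zero_iff_isHomogeneous (Fin N)).2 (ha ▸ hgh j)
      rw [← hg j]
      conv_lhs => rw [MvPolynomial.totalDegree_eq_zero_iff_eq_C.1 h0]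
      rw [MvPolynomial.rename_C, MvPolynomial.constantCoeff_eq]
    obtain ⟨x⟩ : Nonempty X := inferInstance
    obtain ⟨i, hi⟩ := H11Ample.exists_mem_basicOpen_X (n := N) (R := k) (ι.base x)
    have hu : IsUnit (LefPen.dehom (G j) i) := by
      rw [← H25Transversal.polyToSection_form, hC]
      exact ((isUnit_iff_ne_zero.2 hj).map MvPolynomial.C).map _
    have hz : ι.app (LefPen.chart N k i) (LefPen.dehom (G j) i) = 0 := by
      have : LefPen.dehom (G j) i ∈ ι.ker.ideal (H25Transversal.chartU N k i) := by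
        rw [hker, H10Coh.CI.ciIdeal_chart]
        exact Ideal.subset_span ⟨j, rfl⟩
      rw [Scheme.Hom.ker_apply] at this
      exact this
    haveI : Nonempty (ι ⁻¹ᵁ LefPen.chart N k i) := ⟨⟨x, hi⟩⟩
    haveI : IsDomain Γ(X, ι ⁻¹ᵁ LefPen.chart N k i) := IsIntegral.component_integral _
    exact not_isUnit_zero (hz ▸ hu.map (ι.app (LefPen.chart N k i)).hom)
  haveI := hne
  haveI hdom : IsDomain Γ(X, vopen ι) := IsIntegral.component_integral _
  letI alg : Algebra k Γ(X, vopen ι) := (Ψ.comp MvPolynomial.C).toAlgebra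
  let π : MvPolynomial (Fin N) k →ₐ[k] Γ(X, vopen ι) :=
    { Ψ.comp (MvPolynomial.rename (R := k) Fin.castSucc).toRingHom with
      commutes' := fun c => by
        show Ψ (MvPolynomial.rename Fin.castSucc (MvPolynomial.C c)) = _
        rw [MvPolynomial.rename_C]
        rfl }
  have hπdh : ∀ F, π (dh (k := k) (N := N) F) = Ψ F := by
    intro F
    induction F using MvPolynomial.induction_on with
    | C c => show Ψ (MvPolynomial.rename _ (dh (MvPolynomial.C c))) = _; simp [dh]
    | add p q hp hq => simp only [map_add, hp, hq]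
    | mul_X p j hp =>
      simp only [map_mul, hp]
      congr 1
      show Ψ (MvPolynomial.rename _ (dh (MvPolynomial.X j))) = _
      refine Fin.lastCases ?_ (fun i => ?_) j
      · rw [dh_last, map_one, map_one]
        exact ((congrArg (ι.app U).hom (H25Transversal.polyToSection_self (r := N) (k := k) (Fin.last N))).trans (map_one _)).symm
      · simp [dh]
  have hsurj : Function.Surjective π := fun x => by
    obtain ⟨F, rfl⟩ := hΨs x
    exact ⟨_, hπdh F⟩
  haveI hft : Algebra.FiniteType k Γ(X, vopen ι) := Algebra.FiniteType.of_surjective π hsurj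
  have hgπ : ∀ j, π (g j) = 0 := fun j => by
    rw [← hdhG, hπdh]
    have : H25Transversal.polyToSection N k (Fin.last N) (G j).1 ∈
        ι.ker.ideal (H25Transversal.chartU N k (Fin.last N)) := by
      rw [hker, H10Coh.CI.ciIdeal_chart, H25Transversal.polyToSection_form]
      exact Ideal.subset_span ⟨j, rfl⟩
    rw [Scheme.Hom.ker_apply] at this
    exact this
  have hpres : IsConePres π := by
    refine ⟨hsurj, fun P hP i => ?_⟩
    have h1 := hΨker _ hP
    rw [show dh (k := k) (N := N) ((MvPolynomial.rename Fin.castSucc : MvPolynomial (Fin N) k →ₐ[k] _).toRingHom P) = P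
      from dh_rename P] at h1
    have h2 := isHomogeneous_span_forms hgh h1 i
    generalize MvPolynomial.homogeneousComponent i P = Q at h2 ⊢
    induction h2 using Submodule.span_induction with
    | mem x hx => obtain ⟨j, rfl⟩ := hx; exact hgπ j
    | zero => exact map_zero π
    | add x y _ _ hx hy => rw [map_add, hx, hy, add_zero]
    | smul c x _ hx => rw [smul_eq_mul, map_mul, hx, mul_zero]
  have hw : (isAffineOpen_vopen ι).fromSpec ≫ (X ↘ (Spec (CommRingCat.of k))) =
      H27HilbAff.fB (R := k) (B := Γ(X, vopen ι)) (𝟙 (Spec (CommRingCat.of k))) ≫ 𝟙 (Spec (CommRingCat.of k)) := by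
    simp only [H27HilbAff.fB, Category.comp_id]
    rw [← hιk, ← IsAffineOpen.SpecMap_appLE_fromSpec_assoc ι (H25Transversal.chartU N k (Fin.last N)).2
      (isAffineOpen_vopen ι) le_rfl, H25Transversal.fromSpec_toSpec, ← Spec.map_comp]
    refine congrArg Spec.map ?_
    show CommRingCat.ofHom ((H25Transversal.polyToSection N k (Fin.last N)).comp MvPolynomial.C) ≫
      ι.appLE (LefPen.chart N k (Fin.last N)) (ι ⁻¹ᵁ LefPen.chart N k (Fin.last N)) le_rfl = _
    rw [Scheme.Hom.appLE_eq_app]
    rfl
  refine ⟨hdom, alg, hft, π, hw, hpres, ?_, hne, hπdh⟩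
  -- the dimension
  haveI : LocallyOfFiniteType (X ↘ (Spec (CommRingCat.of k))) := by
    rw [← hιk]
    infer_instance
  let L := FractionRing Γ(X, vopen ι)
  let x : Spec (CommRingCat.of L) ⟶ X :=
    Spec.map (CommRingCat.ofHom (algebraMap Γ(X, vopen ι) L)) ≫ (isAffineOpen_vopen ι).fromSpec
  haveI : IsPreimmersion (Spec.map (CommRingCat.ofHom (algebraMap Γ(X, vopen ι) L))) :=
    IsPreimmersion.of_isLocalization (nonZeroDivisors Γ(X, vopen ι))
  haveI : IsPreimmersion x := inferInstanceAs (IsPreimmersion (_ ≫ _))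
  obtain ⟨s, hs, hs'⟩ := H8Props.FieldDim.exists_trdeg (X ↘ (Spec (CommRingCat.of k))) (L := L) x (by
    rw [Category.assoc, hw]
    simp only [H27HilbAff.fB, Category.comp_id, ← Spec.map_comp]
    rw [← CommRingCat.ofHom_comp, ← IsScalarTower.algebraMap_eq]) (IsLocalRing.closedPoint L)
  have hgen : x (IsLocalRing.closedPoint L) = genericPoint X := by
    have h1 : (Spec.map (CommRingCat.ofHom (algebraMap Γ(X, vopen ι) L))) (IsLocalRing.closedPoint L) =
        genericPoint (Spec Γ(X, vopen ι)) := by
      rw [genericPoint_eq_bot_of_affine]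
      apply PrimeSpectrum.ext
      show (IsLocalRing.maximalIdeal L).comap (algebraMap Γ(X, vopen ι) L) = ⊥
      rw [IsLocalRing.maximalIdeal_eq_bot, ← RingHom.ker_eq_comap_bot,
        (RingHom.injective_iff_ker_eq_bot _).1 (IsFractionRing.injective Γ(X, vopen ι) L)]
    refine (congrArg (isAffineOpen_vopen ι).fromSpec h1).trans ?_
    exact genericPoint_eq_of_isOpenImmersion (isAffineOpen_vopen ι).fromSpec
  rw [hgen, H22Alg.VarDim.cdim_genericPoint, hdim] at hs
  obtain ⟨t, ht, ht'⟩ := H8Props.FieldDim.exists_dim_trdeg k Γ(X, vopen ι)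
  have h3 := trdeg_add_eq k Γ(X, vopen ι) (A := L)
  rw [trdeg_eq_zero_iff.2 (IsLocalization.isAlgebraic L (nonZeroDivisors Γ(X, vopen ι))), add_zero, ht', hs',
    Nat.cast_inj] at h3
  rw [ht, h3, hs]

end

end Groth.Agent.H27ConeHilb
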