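import Groth.Agent.H27ConeHilb.Algebra
import Groth.Agent.H11Misc.HilbertDeg
import Groth.Agent.H8Props.FieldDimRing
import Mathlib

/-! # Hilbert functions of affine cones -/

set_option autoImplicit false
set_option linter.style.haveILetI false

universe u

open MvPolynomial
open Groth.Agent.H11Misc.HilbertDeg

namespace Groth.Agent.H27ConeHilb

noncomputable section

variable {k : Type u} [Field k] {B : Type u} [CommRing B] [IsDomain B] [Algebra k B] {N : ℕ}

local notation "S'" => MvPolynomial (Fin N) k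
local notation "T'" => MvPolynomial (Fin (N + 1)) k

/-- A presentation of an affine cone. -/
structure IsConePres (π : S' →ₐ[k] B) : Prop where
  surj : Function.Surjective π
  homog : ∀ P, π P = 0 → ∀ i, π (homogeneousComponent i P) = 0

/-- Setting the last variable to one. -/
def dh : T' →ₐ[k] S' := aeval (Fin.snoc X 1)

theorem dh_rename (P : S') : dh (rename Fin.castSucc P) = P := by
  rw [dh, aeval_rename]
  conv_rhs => rw [← aeval_X_left_apply P]
  congr 2
  ext j
  simp

theorem dh_last : dh (X (Fin.last N) : T') = 1 := by simp [dh]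

theorem totalDegree_dh_le {r : ℕ} {F : T'} (hF : F.IsHomogeneous r) : (dh F).totalDegree ≤ r := by
  classical
  have hb : ∀ j, ((Fin.snoc X 1 : Fin (N + 1) → S') j).totalDegree ≤ 1 := fun j => by
    refine Fin.lastCases ?_ (fun i => ?_) j
    · simp
    · simp [totalDegree_X]
  rw [dh, aeval_def, eval₂_eq']
  refine (totalDegree_finset_sum _ _).trans (Finset.sup_le fun α hα => ?_)
  refine (totalDegree_mul _ _).trans ?_
  rw [show algebraMap k S' (coeff α F) = C (coeff α F) from rfl, totalDegree_C, zero_add]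
  refine (totalDegree_finset_prod _ _).trans ?_
  have hd : ∑ j, α j = r := by
    rw [← hF (mem_support_iff.1 hα), Finsupp.weight_apply, Finsupp.sum_fintype _ _ (by simp)]
    simp
  refine (Finset.sum_le_sum fun j _ => (totalDegree_pow _ _).trans (Nat.mul_le_mul_left _ (hb j))).trans ?_
  simp [hd]

variable (π : MvPolynomial (Fin N) k →ₐ[k] B)

/-- The homogeneous ideal of the projective cone. -/
def coneIdeal : Ideal T' :=
  ((RingHom.ker (π.comp (dh (k := k) (N := N))).toRingHom).homogeneousCore (CohB1.polyGrading N k)).toIdeal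

theorem isHomogeneous_coneIdeal : (coneIdeal π).IsHomogeneous (CohB1.polyGrading N k) :=
  (Ideal.homogeneousCore _ _).isHomogeneous

instance isPrime_coneIdeal : (coneIdeal π).IsPrime := (RingHom.ker_isPrime _).homogeneousCore

theorem le_coneIdeal_iff {F : T'} (hF : F ∈ coneIdeal π) : π (dh F) = 0 :=
  (RingHom.mem_ker (f := (π.comp (dh (k := k) (N := N))).toRingHom)).1 (Ideal.toIdeal_homogeneousCore_le _ _ hF)

theorem mem_coneIdeal_iff {r : ℕ} {F : T'} (hF : F.IsHomogeneous r) : F ∈ coneIdeal π ↔ π (dh F) = 0 :=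
  ⟨le_coneIdeal_iff π, fun h =>
    Ideal.mem_homogeneousCore_of_homogeneous_of_mem ⟨r, hF⟩ (RingHom.mem_ker.2 h)⟩

theorem component_mem {F : T'} (hF : F ∈ coneIdeal π) (i : ℕ) : homogeneousComponent i F ∈ coneIdeal π := by
  have h := isHomogeneous_coneIdeal π i hF
  rwa [show (DirectSum.decompose (CohB1.polyGrading N k) F i : T') = homogeneousComponent i F from
    MvPolynomial.decomposition.decompose'_apply F i] at h

/-- Polynomials of degree at most `r` in the coordinates of the cone. -/
def piece (r : ℕ) : Submodule k B := (CohB1.polyGrading N k r).map (π.comp dh).toLinearMap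

theorem hfun_eq (r : ℕ) : hfun (coneIdeal π) r = Module.finrank k (piece π r) := by
  haveI := finite_piece (k := k) (n := N) r
  let L : ↥(CohB1.polyGrading N k r) →ₗ[k] B := (π.comp dh).toLinearMap.comp (Submodule.subtype _)
  have hr : LinearMap.range L = piece π r := by
    rw [LinearMap.range_comp, Submodule.range_subtype]
    rfl
  have hker : Module.finrank k (LinearMap.ker L) =
      Module.finrank k ↥(Submodule.restrictScalars k (coneIdeal π) ⊓ CohB1.polyGrading N k r) := by
    have e : (LinearMap.ker L).map (Submodule.subtype _) =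
        Submodule.restrictScalars k (coneIdeal π) ⊓ CohB1.polyGrading N k r := by
      ext F
      simp only [Submodule.mem_map, LinearMap.mem_ker, Submodule.mem_inf, Submodule.restrictScalars_mem]
      refine ⟨?_, fun h => ⟨⟨F, h.2⟩, le_coneIdeal_iff π h.1, rfl⟩⟩
      rintro ⟨⟨G, hG⟩, h0, rfl⟩
      exact ⟨(mem_coneIdeal_iff π hG).2 h0, hG⟩
    rw [← e]
    exact ((Submodule.equivMapOfInjective _ (Submodule.injective_subtype _) _).finrank_eq)
  have h := L.finrank_range_add_finrank_ker
  rw [hr, hker] at h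
  rw [hfun, ← h]
  push_cast
  ring

variable {π} (hπ : IsConePres π)

include hπ in
theorem exists_eps : ∃ ε : B →ₐ[k] k, ∀ P, ε (π P) = constantCoeff P := by
  let c : S' →ₐ[k] k := aeval 0
  have hc : ∀ P, c P = constantCoeff P := fun P => by simp [c]
  have hker : ∀ P ∈ RingHom.ker π.toRingHom, c P = 0 := fun P hP => by
    have h := hπ.homog P (RingHom.mem_ker.1 hP) 0
    rw [homogeneousComponent_zero, ← MvPolynomial.algebraMap_eq, AlgHom.commutes] at h
    rw [hc, constantCoeff_eq]
    exact (map_eq_zero_iff _ (algebraMap k B).injective).1 h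
  refine ⟨(Ideal.Quotient.liftₐ _ c hker).comp
    (Ideal.quotientKerAlgEquivOfSurjective hπ.surj).symm.toAlgHom, fun P => ?_⟩
  rw [← hc]
  show Ideal.Quotient.liftₐ _ c hker ((Ideal.quotientKerAlgEquivOfSurjective hπ.surj).symm (π P)) = c P
  rw [show π P = (Ideal.quotientKerAlgEquivOfSurjective hπ.surj) (Ideal.Quotient.mk _ P) from rfl,
    AlgEquiv.symm_apply_apply]
  rfl

variable (π)

/-- The powers of the ideal of the vertex. -/
def vpow (r : ℕ) : Ideal B := (idealOfVars (Fin N) k ^ r).map π

variable {π}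

theorem vpow_mono {r t : ℕ} (h : r ≤ t) : vpow π t ≤ vpow π r := Ideal.map_mono (Ideal.pow_le_pow_right h)

include hπ in
theorem mem_vpow_iff {r : ℕ} {x : B} : x ∈ vpow π r ↔ ∃ P ∈ idealOfVars (Fin N) k ^ r, π P = x :=
  Ideal.mem_map_iff_of_surjective _ hπ.surj

theorem component_low {r : ℕ} {P : S'} (hP : P ∈ idealOfVars (Fin N) k ^ r) {i : ℕ} (hi : i < r) :
    homogeneousComponent i P = 0 := by
  classical
  ext α
  rw [coeff_homogeneousComponent, coeff_zero]
  split_ifs with h
  · by_contra hne
    have := (mem_pow_idealOfVars_iff r P).1 hP α (mem_support_iff.2 hne)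
    omega
  · rfl

theorem component_high {P : S'} {r i : ℕ} (hi : r ≤ i) :
    homogeneousComponent i P ∈ idealOfVars (Fin N) k ^ r := by
  refine (mem_pow_idealOfVars_iff r _).2 fun α hα => ?_
  have h := (homogeneousComponent_isHomogeneous i P) (mem_support_iff.1 hα)
  simp only [← Finsupp.degree_eq_weight_one, Pi.one_def] at h
  omega

include hπ in
theorem isCompl_piece (r : ℕ) : IsCompl (piece π r) ((vpow π (r + 1)).restrictScalars k) := by
  classical
  constructor
  · rw [Submodule.disjoint_def]
    rintro x ⟨F, hF, rfl⟩ hx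
    obtain ⟨Q, hQ, hQx⟩ := (mem_vpow_iff hπ).1 hx
    show π (dh F) = 0
    have h0 : π (dh F - Q) = 0 := by rw [map_sub, hQx]; exact sub_self _
    rw [← sum_homogeneousComponent (dh F), map_sum]
    refine Finset.sum_eq_zero fun i hi => ?_
    have hi' : i < r + 1 := by
      have := totalDegree_dh_le hF
      have := Finset.mem_range.1 hi
      omega
    have h := hπ.homog _ h0 i
    rwa [map_sub, component_low hQ hi', sub_zero] at h
  · rw [codisjoint_iff, eq_top_iff]
    intro x _
    obtain ⟨P, rfl⟩ := hπ.surj x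
    rw [← sum_homogeneousComponent P, map_sum]
    refine Submodule.sum_mem _ fun i _ => ?_
    by_cases hi : i ≤ r
    · refine Submodule.mem_sup_left ⟨rename Fin.castSucc (homogeneousComponent i P) * X (Fin.last N) ^ (r - i), ?_, ?_⟩
      · have h := ((homogeneousComponent_isHomogeneous i P).rename_isHomogeneous (f := Fin.castSucc)).mul
          (isHomogeneous_X_pow (R := k) (Fin.last N) (r - i))
        rw [show i + (r - i) = r by omega] at h
        exact h
      · show π (dh _) = _
        rw [map_mul, map_pow, dh_rename, dh_last, one_pow, mul_one]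
    · exact Submodule.mem_sup_right (Ideal.mem_map_of_mem π (component_high (by omega)))

include hπ in
theorem finite_quot (r : ℕ) : Module.Finite k (B ⧸ vpow π (r + 1)) ∧
    Module.finrank k (B ⧸ vpow π (r + 1)) = Module.finrank k (piece π r) := by
  haveI := finite_piece (k := k) (n := N) r
  haveI : Module.Finite k (piece π r) := Module.Finite.map _ _
  let e : (B ⧸ vpow π (r + 1)) ≃ₗ[k] piece π r :=
    (Submodule.Quotient.restrictScalarsEquiv k _).symm ≪≫ₗ
      Submodule.quotientEquivOfIsCompl _ _ (isCompl_piece hπ r).symm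
  exact ⟨Module.Finite.equiv e.symm, e.finrank_eq⟩

include hπ in
/-- Independent elements in a layer. -/
theorem exists_layer (r c d : ℕ)
    (h : c + d + Module.finrank k (piece π r) ≤ Module.finrank k (piece π (r + 1))) :
    ∃ S : Layer (k := k) B (Fin c ⊕ Fin d), S.I₀ = vpow π (r + 2) := by
  classical
  obtain ⟨ε, hε⟩ := exists_eps hπ
  obtain ⟨hf, hr⟩ := finite_quot hπ (r + 1)
  obtain ⟨hf', hr'⟩ := finite_quot hπ r
  haveI := hf
  haveI := hf'
  let p : (B ⧸ vpow π (r + 2)) →ₗ[k] B ⧸ vpow π (r + 1) :=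
    (Ideal.Quotient.factorₐ k (vpow_mono (Nat.le_succ _))).toLinearMap
  have hp : LinearMap.range p = ⊤ :=
    LinearMap.range_eq_top.2 (Ideal.Quotient.factor_surjective (vpow_mono (Nat.le_succ _)))
  have hk : c + d ≤ Module.finrank k (LinearMap.ker p) := by
    have h1 := p.finrank_range_add_finrank_ker
    rw [hp, finrank_top, hr'] at h1
    rw [hr] at h1
    omega
  let bK := Module.finBasis k (LinearMap.ker p)
  let v : Fin c ⊕ Fin d → B ⧸ vpow π (r + 2) := fun i => (bK (Fin.castLE hk (finSumFinEquiv i))).1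
  choose b hb using fun i => Ideal.Quotient.mk_surjective (v i)
  have hmem : ∀ i, b i ∈ vpow π (r + 1) := fun i => by
    rw [← Ideal.Quotient.eq_zero_iff_mem]
    have := LinearMap.mem_ker.1 (bK (Fin.castLE hk (finSumFinEquiv i))).2
    rw [show (bK (Fin.castLE hk (finSumFinEquiv i))).1 = v i from rfl, ← hb] at this
    exact this
  refine ⟨⟨ε, vpow π (r + 2), b, ?_, fun i x => ?_⟩, rfl⟩
  · rw [show (fun i => Ideal.Quotient.mk (vpow π (r + 2)) (b i)) = v from funext hb]
    exact (bK.linearIndependent.comp _ ((Fin.castLE_injective hk).comp finSumFinEquiv.injective)).map'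
      (LinearMap.ker p).subtype (Submodule.ker_subtype _)
  · obtain ⟨P, rfl⟩ := hπ.surj x
    rw [hε, ← Ideal.Quotient.mkₐ_eq_mk k, ← map_smul, Ideal.Quotient.mkₐ_eq_mk, Ideal.Quotient.eq, Algebra.smul_def,
      ← sub_mul]
    obtain ⟨Q, hQ, hQb⟩ := (mem_vpow_iff hπ).1 (hmem i)
    rw [← hQb, ← π.commutes, ← map_sub, ← map_mul]
    refine Ideal.mem_map_of_mem π ?_
    rw [pow_succ' _ (r + 1)]
    refine Ideal.mul_mem_mul ?_ hQ
    rw [← pow_one (idealOfVars (Fin N) k), mem_pow_idealOfVars_iff]
    intro α hα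
    rw [Nat.one_le_iff_ne_zero, ne_eq, Finsupp.degree_eq_zero_iff]
    rintro rfl
    rw [mem_support_iff, MvPolynomial.algebraMap_eq, coeff_sub, coeff_zero_C, constantCoeff_eq, sub_self] at hα
    exact hα rfl

theorem coneIdeal_ne_ker : coneIdeal π ≠ RingHom.ker (π.comp (dh (k := k) (N := N))).toRingHom := fun e => by
  have h : (X (Fin.last N) - 1 : T') ∈ coneIdeal π := by
    rw [e, RingHom.mem_ker]
    simp [dh_last]
  have h0 := component_mem π h 0
  rw [map_sub, homogeneousComponent_zero, homogeneousComponent_zero] at h0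
  simp only [coeff_zero_X, map_zero, coeff_zero_one, map_one, zero_sub, neg_mem_iff] at h0
  exact (isPrime_coneIdeal π).ne_top ((Ideal.eq_top_iff_one _).2 h0)

/-- The embedding of the homogeneous coordinate ring in a polynomial ring. -/
def phiT (π : S' →ₐ[k] B) : T' →ₐ[k] Polynomial B :=
  aeval (Fin.snoc (fun j => Polynomial.C (π (X j)) * Polynomial.X) Polynomial.X)

theorem phiT_of_homog {r : ℕ} {F : T'} (hF : F.IsHomogeneous r) :
    phiT π F = Polynomial.C (π (dh F)) * Polynomial.X ^ r := by
  classical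
  rw [as_sum F, map_sum, map_sum, map_sum, map_sum, Finset.sum_mul]
  refine Finset.sum_congr rfl fun α hα => ?_
  have hd : ∑ j, α j = r := by
    rw [← hF (mem_support_iff.1 hα), Finsupp.weight_apply, Finsupp.sum_fintype _ _ (by simp)]
    simp
  simp only [phiT, dh, aeval_monomial, map_mul, AlgHom.commutes, Finsupp.prod_pow, map_prod, map_pow]
  rw [IsScalarTower.algebraMap_apply k B (Polynomial B), Polynomial.algebraMap_eq, ← hd, ← Finset.prod_pow_eq_pow_sum, mul_assoc, ← Finset.prod_mul_distrib]
  congr 1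
  refine Finset.prod_congr rfl fun j _ => ?_
  refine Fin.lastCases ?_ (fun i => ?_) j
  · simp
  · simp [mul_pow]

theorem ker_phiT : RingHom.ker (phiT π).toRingHom = coneIdeal π := by
  classical
  ext F
  rw [RingHom.mem_ker]
  have hs : phiT π F = ∑ i ∈ Finset.range (F.totalDegree + 1),
      Polynomial.C (π (dh (homogeneousComponent i F))) * Polynomial.X ^ i := by
    conv_lhs => rw [← sum_homogeneousComponent F, map_sum]
    exact Finset.sum_congr rfl fun i _ => phiT_of_homog (homogeneousComponent_isHomogeneous i F)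
  constructor
  · intro h
    rw [← sum_homogeneousComponent F]
    refine Ideal.sum_mem _ fun i hi => (mem_coneIdeal_iff π (homogeneousComponent_isHomogeneous i F)).2 ?_
    have h' := congrArg (fun p => Polynomial.coeff p i) (hs.symm.trans h)
    simpa [Polynomial.finsetSum_coeff, Polynomial.coeff_X_pow, Finset.mem_range.1 hi] using h'
  · intro h
    show phiT π F = 0
    rw [hs]
    exact Finset.sum_eq_zero fun i _ => by rw [le_coneIdeal_iff π (component_mem π h i), map_zero, zero_mul]

include hπ in
/-- The Hilbert polynomial of an `n`-dimensional cone. -/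
theorem exists_hilb_cone [Algebra.FiniteType k B] {n : ℕ} (hdim : ringKrullDim B = n) :
    ∃ P : Polynomial ℚ, P.natDegree = n ∧ 0 < P.leadingCoeff ∧
      ∃ r₀ : ℕ, ∀ r : ℕ, r₀ ≤ r → P.eval (r : ℚ) = Module.finrank k (piece π r) := by
  obtain ⟨s, hs⟩ := exists_dim (coneIdeal π)
  obtain ⟨t, g, ht⟩ : ∃ t, ∃ _ : Unit, ringKrullDim (T' ⧸ RingHom.ker (π.comp (dh (k := k) (N := N))).toRingHom) = (t : ℕ) ∧
      t = n := by
    have hsurj : Function.Surjective (π.comp dh) := fun x => by
      obtain ⟨P, rfl⟩ := hπ.surj x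
      exact ⟨rename Fin.castSucc P, by simp [dh_rename]⟩
    refine ⟨n, (), ?_, rfl⟩
    rw [← hdim]
    exact ringKrullDim_eq_of_ringEquiv (RingHom.quotientKerEquivOfSurjective hsurj)
  obtain ⟨ht, rfl⟩ := ht
  have hlt : t < s := by
    haveI := RingHom.ker_isPrime (π.comp (dh (k := k) (N := N))).toRingHom
    exact dim_lt (p := coneIdeal π) (lt_of_le_of_ne (Ideal.toIdeal_homogeneousCore_le _ _) coneIdeal_ne_ker) hs ht
  have hle : s ≤ t + 1 := by
    haveI : IsNoetherianRing B := Algebra.FiniteType.isNoetherianRing k B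
    haveI : Algebra.FiniteType k (Polynomial B) :=
      Algebra.FiniteType.trans (R := k) (S := B) inferInstance inferInstance
    let φ : (T' ⧸ coneIdeal π) →ₐ[k] Polynomial B :=
      Ideal.Quotient.liftₐ _ (phiT π) fun a ha => by rwa [← ker_phiT, RingHom.mem_ker] at ha
    have hφ : Function.Injective φ := by
      rw [injective_iff_map_eq_zero]
      intro a
      obtain ⟨a, rfl⟩ := Ideal.Quotient.mk_surjective a
      intro h
      rw [Ideal.Quotient.eq_zero_iff_mem, ← ker_phiT, RingHom.mem_ker]
      exact h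
    haveI : Algebra.FiniteType k (T' ⧸ coneIdeal π) :=
      Algebra.FiniteType.of_surjective (Ideal.Quotient.mkₐ k _) Ideal.Quotient.mk_surjective
    obtain ⟨a, ha, ha'⟩ := H8Props.FieldDim.exists_dim_trdeg k (T' ⧸ coneIdeal π)
    obtain ⟨b, hb, hb'⟩ := H8Props.FieldDim.exists_dim_trdeg k (Polynomial B)
    have h1 := trdeg_le_of_injective φ hφ
    rw [ha', hb', Nat.cast_le] at h1
    rw [hs, Nat.cast_inj] at ha
    rw [Polynomial.ringKrullDim_of_isNoetherianRing, hdim] at hb
    have : b = t + 1 := by exact_mod_cast hb.symm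
    omega
  obtain rfl : s = t + 1 := by omega
  obtain ⟨P, hP⟩ : ∃ P, IsHilb (coneIdeal π) P := by
    obtain ⟨P, hP, -⟩ := exists_hilb (t + 1) _ (isHomogeneous_coneIdeal π) fun q hq h => (dim_le_of_le h).trans hs.le
    exact ⟨P, hP⟩
  obtain ⟨D, hD, -, hD'⟩ := hilb_spec (isHomogeneous_coneIdeal π) (isPrime_coneIdeal π).ne_top hP
  rw [hs, Nat.cast_inj] at hD
  obtain ⟨h1, h2⟩ := hD' t hD.symm
  obtain ⟨r₀, hr₀⟩ := hP
  exact ⟨P, h1, h2, r₀, fun r hr => by rw [hr₀ r hr, hfun_eq]⟩

end

end Groth.Agent.H27ConeHilb
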