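import Groth.Agent.H27ConeHilb.Chart
import Groth.Agent.H27UPts.Main
import Groth.Agent.H10Coh.CI.Seq
import Groth.Agent.H10Coh.SerreVanishing2
import Groth.Agent.H22Alg.TwistPoint
import Groth.Agent.H22Alg.IdealPowFam
import Groth.Agent.H02CA.GM.Chart
import Groth.Agent.H22Alg.CurveAmple
import Groth.Agent.H10Coh.Stab.TwistInt
import Groth.Agent.H27Weil.Geometry
import Groth.Agent.H11Ample.Converse
import Groth.Agent.H11Ample.AmpleOn
import Groth.Agent.S11753

/-! # The degree of a cone against its Hilbert polynomial -/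

set_option autoImplicit false
set_option linter.style.haveILetI false
set_option backward.isDefEq.respectTransparency false
set_option backward.isDefEq.respectTransparency.types false

universe u

open CategoryTheory CategoryTheory.Limits AlgebraicGeometry TopologicalSpace Opposite

namespace Groth.Agent.H27ConeHilb

noncomputable section

attribute [local instance 10000] H10Coh.hasSheafifyAb H10Coh.hasWeakSheafifyAb H10Coh.hasExtAb H10Coh.enoughInjAb

/-- Sections of an invertible module on an integral scheme are determined on a nonempty open. -/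
theorem eq_zero_of_res {X : Scheme.{u}} [IsIntegral X] {M : X.Modules} (hM : PicF.IsInvertible M) (V : X.Opens)
    [Nonempty V] (t : Γ(M, ⊤)) (h : M.presheaf.map (homOfLE (le_top : V ≤ ⊤)).op t = 0) : t = 0 := by
  choose W e hxW he using fun x => H11Ample.exists_gen hM x
  refine TopCat.Sheaf.eq_of_locally_eq' (⟨M.presheaf, M.isSheaf⟩ : TopCat.Sheaf Ab X.toTopCat) W ⊤
    (fun x => homOfLE le_top) (fun x _ => Opens.mem_iSup.2 ⟨x, hxW x⟩) _ _ fun x => ?_
  show M.presheaf.map (homOfLE (le_top : W x ≤ ⊤)).op t = M.presheaf.map (homOfLE (le_top : W x ≤ ⊤)).op 0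
  rw [map_zero]
  obtain ⟨c, hc⟩ := H11Ample.exists_coeff (he x) (M.presheaf.map (homOfLE (le_top : W x ≤ ⊤)).op t)
  obtain ⟨y, hy⟩ : ((W x ⊓ V : X.Opens) : Set X).Nonempty := by
    obtain ⟨⟨v, hv⟩⟩ := (inferInstance : Nonempty V)
    exact nonempty_preirreducible_inter (W x).2 V.2 ⟨x, hxW x⟩ ⟨v, hv⟩
  haveI : Nonempty (W x ⊓ V : X.Opens) := ⟨⟨y, hy⟩⟩
  haveI : Nonempty (W x) := ⟨⟨x, hxW x⟩⟩
  have h1 : X.presheaf.map (homOfLE (inf_le_left : W x ⊓ V ≤ W x)).op c = 0 := by
    refine ((he x).bijective (inf_le_left : W x ⊓ V ≤ W x)).1 ?_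
    beta_reduce
    rw [zero_smul, ← Scheme.Modules.map_smul, ← hc, H10Coh.mres_mres]
    have h2 := congrArg (fun z => M.presheaf.map (homOfLE (inf_le_right : W x ⊓ V ≤ V)).op z) h
    beta_reduce at h2
    rw [map_zero, H10Coh.mres_mres] at h2
    exact h2
  rw [hc, map_injective_of_isIntegral X _ (h1.trans (map_zero _).symm), zero_smul]

variable {k : Type u} [Field k] {N : ℕ} {X : Scheme.{u}} [X.Over (Spec (CommRingCat.of k))] [IsIntegral X]
  (ι : X ⟶ CohB1.ProjSpace N k) [IsClosedImmersion ι]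

variable [Nonempty (vopen ι)] [Algebra k Γ(X, vopen ι)]

/-- The scalars on the vertex chart. -/
theorem res_toGlobal
    (hw : (isAffineOpen_vopen ι).fromSpec ≫ (X ↘ (Spec (CommRingCat.of k))) =
      H27HilbAff.fB (R := k) (B := Γ(X, vopen ι)) (𝟙 (Spec (CommRingCat.of k))) ≫ 𝟙 (Spec (CommRingCat.of k))) (c : k) :
    X.presheaf.map (homOfLE (le_top : vopen ι ≤ ⊤)).op (H10Coh.globA (A := k) (X := X) c) =
      algebraMap k Γ(X, vopen ι) c := by
  show X.presheaf.map (homOfLE (le_top : vopen ι ≤ ⊤)).op (Coh.toGlobal (X ↘ (Spec (CommRingCat.of k))) c) = _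
  rw [H7Flat.CohDim.toGlobal_res]
  have h := IsAffineOpen.SpecMap_appLE_fromSpec (X ↘ (Spec (CommRingCat.of k)))
    (isAffineOpen_top (Spec (CommRingCat.of k))) (isAffineOpen_vopen ι) le_top
  rw [IsAffineOpen.fromSpec_top, Scheme.isoSpec_Spec_inv, ← Spec.map_comp, hw] at h
  simp only [H27HilbAff.fB, Category.comp_id] at h
  exact RingHom.congr_fun (congrArg CommRingCat.Hom.hom (Spec.map_injective h)) c

theorem exists_h0_le [IsProper (X ↘ (Spec (CommRingCat.of k)))] (π : MvPolynomial (Fin N) k →ₐ[k] Γ(X, vopen ι))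
    (hw : (isAffineOpen_vopen ι).fromSpec ≫ (X ↘ (Spec (CommRingCat.of k))) =
      H27HilbAff.fB (R := k) (B := Γ(X, vopen ι)) (𝟙 (Spec (CommRingCat.of k))) ≫ 𝟙 (Spec (CommRingCat.of k)))
    (hπ : ∀ F, π (dh (k := k) (N := N) F) = ι.app (LefPen.chart N k (Fin.last N)) (H25Transversal.polyToSection N k (Fin.last N) F)) :
    ∃ r₀ : ℕ, ∀ r : ℕ, r₀ ≤ r →
      Module.finrank k (Coh.HH X ((Scheme.Modules.pullback ι).obj (Twist.twistProjSpace N k (r : ℤ))) 0) ≤
        Module.finrank k (piece π r) := by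
  classical
  haveI : IsLocallyNoetherian (CohB1.ProjSpace N k) :=
    LocallyOfFiniteType.isLocallyNoetherian (CohB1.ProjSpace.toSpec N k)
  obtain ⟨r₀, hr₀⟩ := H10Coh.Tw.exists_vanishing_proj (R := k) N (ClSub.idealMod ι.ker) (H22Alg.IdealPowFam.isCoh_idealMod ι.ker)
  refine ⟨r₀, fun r hr => ?_⟩
  let L : (CohB1.ProjSpace N k).Modules := Twist.twistProjSpace N k (r : ℤ)
  have hL : PicF.IsInvertible L := (H10Coh.Stab.isTwistFamily_projSpace N k).inv r
  let M : X.Modules := (Scheme.Modules.pullback ι).obj L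
  have hM : PicF.IsInvertible M := H11Ample.isInvertible_pullback ι hL
  haveI : M.IsQuasicoherent := (H11Ample.isCoh_of_isInvertible hM).1
  have hsur : Function.Surjective (OmegaSh.pullSect ι L ⊤) :=
    H10Coh.CI.surjective_pullSect ι hL ((H10Coh.HHEquiv _ 1).toEquiv.subsingleton_congr.2 (hr₀ r hr 1 one_pos))
  let U := LefPen.chart N k (Fin.last N)
  let g : Γ(L, U) := H02CA.GM.gd r (Fin.last N)
  have hgU : H11Tilde.IsGen L g :=
    H11Tilde.isGen_of_bijective fun W hW => H02CA.GM.bijective_gd r (Fin.last N) hW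
  let e : Γ(M, vopen ι) := OmegaSh.pullSect ι L U g
  have he : H11Tilde.IsGen M e := H11Tilde.IsGen.pullSect ι hgU
  let E : Γ(X, vopen ι) →+ Γ(M, vopen ι) :=
    { toFun := fun c => c • e, map_zero' := zero_smul _ _, map_add' := fun a b => add_smul a b e }
  have hE : Function.Bijective E := by
    refine Eq.mp (congrArg Function.Bijective (funext fun c => ?_)) (he.bijective (le_refl (vopen ι)))
    show c • M.presheaf.map (homOfLE (le_refl (vopen ι))).op e = c • e
    rw [H10Coh.mres_self]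
  let E' : Γ(X, vopen ι) ≃+ Γ(M, vopen ι) := AddEquiv.ofBijective E hE
  let R : Γ(M, ⊤) →+ Γ(M, vopen ι) := (M.presheaf.map (homOfLE (le_top : vopen ι ≤ ⊤)).op).hom
  let f : Coh.HH X M 0 →+ Γ(X, vopen ι) := (E'.symm.toAddMonoidHom.comp R).comp (H29RR.sec M).toAddMonoidHom
  have hf : ∀ x, f x • e = R (H29RR.sec M x) := fun x => E'.apply_symm_apply (R (H29RR.sec M x))
  have hfs : ∀ (c : k) x, f (c • x) = c • f x := fun c x => by
    refine hE.1 ?_
    show f (c • x) • e = (c • f x) • e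
    rw [hf, H29RR.sec_smul, Algebra.smul_def, mul_smul, hf, ← res_toGlobal ι hw c]
    exact Scheme.Modules.map_smul _ _ _ _
  let Φ : Coh.HH X M 0 →ₗ[k] Γ(X, vopen ι) := { f with map_smul' := hfs }
  have hinj : Function.Injective Φ := fun x y hxy => by
    refine (H29RR.sec M).injective (sub_eq_zero.1 (eq_zero_of_res hM (vopen ι) _ ?_))
    show R (H29RR.sec M x - H29RR.sec M y) = 0
    rw [map_sub, ← hf, ← hf, show f x = f y from hxy, sub_self]
  have hrange : ∀ x, Φ x ∈ piece π r := fun x => by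
    obtain ⟨σ, hσ⟩ := hsur (H29RR.sec M x)
    obtain ⟨F, hF, rfl⟩ := H02CA.GM.exists_form (d := r) σ
    refine ⟨F, hF, ?_⟩
    show π (dh F) = f x
    refine hE.1 ?_
    show π (dh F) • e = f x • e
    rw [hf, ← hσ, hπ]
    have h2 := congrArg (OmegaSh.pullSect ι L U) (H02CA.GM.globalSec_res hF (Fin.last N))
    rw [OmegaSh.pullSect_smul] at h2
    refine Eq.trans ?_ ((h2.symm).trans (H11Tilde.pullSect_res ι L (le_top : U ≤ ⊤) _))
    refine congrArg (fun z : Γ(CohB1.ProjSpace N k, U) => (show Γ(X, vopen ι) from ι.app U z) • e) ?_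
    exact congrArg (Proj.awayToSection (CohB1.polyGrading N k) (MvPolynomial.X (Fin.last N))).hom
      (H11Proj.awayProjHom_mk _ (LefPen.X_mem N k (Fin.last N)) (by rwa [smul_eq_mul, mul_one]))
  haveI := H11Misc.HilbertDeg.finite_piece (k := k) (n := N) r
  haveI : Module.Finite k (piece π r) := Module.Finite.map _ _
  exact LinearMap.finrank_le_finrank_of_injective (f := Φ.codRestrict _ hrange)
    fun a b hab => hinj (congrArg Subtype.val hab)

/-- The degree is at most twice the leading coefficient, for surfaces. -/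
theorem deg_le (π : MvPolynomial (Fin N) k →ₐ[k] Γ(X, vopen ι))
    (hιk : ι ≫ CohB1.ProjSpace.toSpec N k = X ↘ (Spec (CommRingCat.of k)))
    (hw : (isAffineOpen_vopen ι).fromSpec ≫ (X ↘ (Spec (CommRingCat.of k))) =
      H27HilbAff.fB (R := k) (B := Γ(X, vopen ι)) (𝟙 (Spec (CommRingCat.of k))) ≫ 𝟙 (Spec (CommRingCat.of k)))
    (hπ : ∀ F, π (dh (k := k) (N := N) F) = ι.app (LefPen.chart N k (Fin.last N)) (H25Transversal.polyToSection N k (Fin.last N) F))
    (hdim : topologicalKrullDim X = (2 : ℕ)) (deg : ℤ)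
    (hdeg : FGA.intNum k X 2 (fun _ : Fin 2 => (Scheme.Modules.pullback ι).obj (Twist.twistProjSpace N k (-1)))
      (Coh.structureModule X) = deg)
    (P : Polynomial ℚ) (hP : P.natDegree = 2) (r₀ : ℕ)
    (hev : ∀ r : ℕ, r₀ ≤ r → P.eval (r : ℚ) = Module.finrank k (piece π r)) :
    (deg : ℚ) ≤ 2 * P.coeff 2 := by
  haveI : IsProper (X ↘ (Spec (CommRingCat.of k))) := by rw [← hιk]; infer_instance
  haveI := H28Int.isNoetherian k (X := X)
  let O := fun a : ℤ => (Scheme.Modules.pullback ι).obj (Twist.twistProjSpace N k a)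
  have hfam : H10Coh.Stab.IsTwistFamily O := (H10Coh.Stab.isTwistFamily_projSpace N k).pullback ι
  have hA : CohB1.IsAmple (O 1) := H11Ample.isAmple_pullback_of_isAffineHom ι (H11Ample.isAmple_twistProjSpace N k)
  obtain ⟨e0⟩ := hfam.zero
  obtain ⟨e1⟩ := hfam.add 1 (-1)
  have hLM : Nonempty (CohB1.tensorMod (O 1) (O (-1)) ≅ Coh.structureModule X) :=
    ⟨e1 ≪≫ eqToIso (congrArg O (show (1 : ℤ) + -1 = 0 by norm_num)) ≪≫ e0⟩
  obtain ⟨k₀, hk₀⟩ := H10Coh.Tw.exists_vanishing_ample (X ↘ (Spec (CommRingCat.of k))) hA (Coh.structureModule X)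
    (H10Coh.isCoh_structureModule' X)
  obtain ⟨r₁, hr₁⟩ := exists_h0_le ι π hw hπ
  let T : ℕ → ℤ := fun i => FGA.intNum k X 2 (fun _ : Fin i => O (-1)) (Coh.structureModule X)
  have hkey : ∀ r : ℕ, k₀ + r₁ + r₀ ≤ r →
      (T 0 : ℚ) + r * T 1 + (r + 1) * r / 2 * deg ≤ P.eval (r : ℚ) := by
    intro r hr
    have h1 := S11753.result k X 2 hdim.le (O 1) (O (-1)) (hfam.inv 1) hLM (Coh.structureModule X)
      (H10Coh.isCoh_structureModule' X) 2 ((topologicalKrullDim_subspace_le _ _).trans hdim.le) r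
    obtain ⟨er⟩ := hfam.nonempty_tensorPow r
    let eM : CohB1.tensorMod (CohB1.tensorPow (O 1) r) (Coh.structureModule X) ≅ O (r : ℤ) :=
      H10Coh.Tw.rightUnitIso _ ≪≫ er
    let eM' : CohB1.tensorMod (Coh.structureModule X) (CohB1.tensorPow (O 1) r) ≅ O (r : ℤ) :=
      H10Coh.Tw.leftUnitIso _ ≪≫ er
    have hv : ∀ p, 0 < p → Module.finrank k
        (Coh.HH X (CohB1.tensorMod (CohB1.tensorPow (O 1) r) (Coh.structureModule X)) p) = 0 := fun p hp => by
      rw [H22Alg.CurveAmple.finrank_HH_congr eM p, ← H22Alg.CurveAmple.finrank_HH_congr eM' p]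
      haveI := (H10Coh.HHEquiv (CohB1.tensorMod (Coh.structureModule X) (CohB1.tensorPow (O 1) r)) p).toEquiv.subsingleton_congr.2
        (hk₀ r (by omega) p hp)
      exact Module.finrank_zero_of_subsingleton
    have h0 : (Module.finrank k (Coh.HH X (O (r : ℤ)) 0) : ℚ) ≤ P.eval (r : ℚ) := by
      rw [hev r (by omega)]
      exact_mod_cast hr₁ r (by omega)
    rw [FGA.eulerCharLE, Finset.sum_range_succ, Finset.sum_range_succ, Finset.sum_range_succ, Finset.sum_range_succ,
      Finset.sum_range_succ, Finset.sum_range_succ, hv 1 (by norm_num), hv 2 (by norm_num),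
      H22Alg.CurveAmple.finrank_HH_congr eM 0] at h1
    have h2 : (r + 2 - 1).choose 2 * 2 = (r + 1) * r := by
      rw [show r + 2 - 1 = r + 1 by omega, Nat.choose_two_right, Nat.add_sub_cancel,
        Nat.div_mul_cancel (even_iff_two_dvd.1 (by rw [mul_comm]; exact Nat.even_mul_succ_self r))]
    have h2' : ((r + 2 - 1).choose 2 : ℚ) = (r + 1) * r / 2 := by
      rw [eq_div_iff two_ne_zero]; exact_mod_cast h2
    have h1' := congrArg (fun z : ℤ => (z : ℚ)) h1
    simp at h1'
    rw [show FGA.intNum k X 2 (fun _ : Fin 2 => O (-1)) (Coh.structureModule X) = deg from hdeg] at h1'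
    simp only [T]
    rw [← h2', show r + 2 - 1 = r + 1 by omega]
    nlinarith
  by_contra hlt
  push Not at hlt
  set ε : ℚ := deg / 2 - P.coeff 2 with hε
  have hεp : 0 < ε := by rw [hε]; linarith
  obtain ⟨r, hr⟩ := exists_nat_ge (max ((k₀ + r₁ + r₀ : ℕ) : ℚ)
    ((|(T 0 : ℚ) - P.coeff 0| + |(T 1 : ℚ) + deg / 2 - P.coeff 1| + 1) / ε + 1))
  have hr1 : ((k₀ + r₁ + r₀ : ℕ) : ℚ) ≤ r := (le_max_left _ _).trans hr
  have hr2 := (le_max_right _ _).trans hr
  have h := hkey r (by exact_mod_cast hr1)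
  rw [Polynomial.eval_eq_sum_range, hP, Finset.sum_range_succ, Finset.sum_range_succ, Finset.sum_range_succ,
    Finset.sum_range_zero] at h
  have h1 : 1 ≤ (r : ℚ) := le_trans (le_add_of_nonneg_left (by positivity)) hr2
  have h3 : (|(T 0 : ℚ) - P.coeff 0| + |(T 1 : ℚ) + deg / 2 - P.coeff 1| + 1) ≤ ε * ((r : ℚ) - 1) := by
    rw [← div_le_iff₀' hεp]; linarith
  nlinarith [abs_le.1 (le_refl |(T 0 : ℚ) - P.coeff 0|), abs_le.1 (le_refl |(T 1 : ℚ) + deg / 2 - P.coeff 1|),
    mul_le_mul_of_nonneg_left h3 (le_trans zero_le_one h1)]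

end

end Groth.Agent.H27ConeHilb
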