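import Groth.Agent.H11Misc.HilbertDeg
import Mathlib

/-! # Growth of the layers against the colengths -/

set_option autoImplicit false

open Polynomial

namespace Groth.Agent.H27ConeHilb.Numerics

theorem natDegree_comp_add_one (P : ℚ[X]) : (P.comp (X + C 1)).natDegree = P.natDegree := by
  rw [natDegree_comp, natDegree_X_add_C, mul_one]

/-- The polynomial comparing the squared layer with the colength. -/
noncomputable def gap (n : ℕ) (P : ℚ[X]) : ℚ[X] :=
  (P - P.comp (X - C 1)) ^ 2 - C (4 * (n : ℚ)) * P.comp (X + C 1) - C 2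

theorem gap_pos {n : ℕ} {P : ℚ[X]} (hP : P.natDegree = n) (hlc : 0 < P.leadingCoeff)
    (hcond : 2 < n ∨ (n = 2 ∧ 2 < P.coeff 2)) :
    0 < (gap n P).natDegree ∧ 0 < (gap n P).leadingCoeff := by
  obtain ⟨t, rfl⟩ : ∃ t, n = t + 1 := ⟨n - 1, by omega⟩
  have ht : 1 ≤ t := by omega
  let Δ := P - P.comp (X - C 1)
  have hΔc : Δ.coeff t = (t + 1) * P.coeff (t + 1) := by
    rw [Groth.Agent.H11Misc.HilbertDeg.coeff_sub_comp hP.le 1, mul_one]
  have hΔd : Δ.natDegree ≤ t := Groth.Agent.H05EGA4.Samuel.natDegree_sub_comp_le hP.le 1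
  have hsq : (Δ ^ 2).natDegree ≤ t + t := by
    refine natDegree_pow_le.trans ?_
    omega
  have hP1 : (C (4 * ((t + 1 : ℕ) : ℚ)) * P.comp (X + C 1)).natDegree ≤ t + 1 :=
    (natDegree_C_mul_le _ _).trans (natDegree_comp_add_one P ▸ hP.le)
  have hdeg : (gap (t + 1) P).natDegree ≤ t + t := by
    refine (natDegree_sub_le _ _).trans (max_le ((natDegree_sub_le _ _).trans (max_le hsq ?_)) (by simp))
    omega
  have hpos : 0 < P.coeff (t + 1) := by rwa [← hP, ← leadingCoeff]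
  have hcoef : 0 < (gap (t + 1) P).coeff (t + t) := by
    rw [gap, coeff_sub, coeff_sub, coeff_C, if_neg (by omega), sub_zero, pow_two,
      coeff_mul_add_eq_of_natDegree_le hΔd hΔd, hΔc]
    rcases hcond with h | ⟨h, h2⟩
    · rw [coeff_eq_zero_of_natDegree_lt (lt_of_le_of_lt hP1 (by omega)), sub_zero]
      positivity
    · obtain rfl : t = 1 := by omega
      have hlead : (P.comp (X + C 1)).coeff (1 + 1) = P.coeff (1 + 1) := by
        have h3 := leadingCoeff_comp (p := P) (q := X + C 1) (by rw [natDegree_X_add_C]; omega)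
        rw [leadingCoeff, natDegree_comp_add_one, hP, leadingCoeff_X_add_C, one_pow, mul_one, leadingCoeff, hP] at h3
        exact h3
      rw [coeff_C_mul, hlead]
      norm_num at h2 ⊢
      nlinarith
  have heq : (gap (t + 1) P).natDegree = t + t := le_antisymm hdeg (le_natDegree_of_ne_zero hcoef.ne')
  exact ⟨by omega, by rwa [leadingCoeff, heq]⟩

theorem eventually_increasing {n : ℕ} {P : ℚ[X]} (hP : P.natDegree = n) (hlc : 0 < P.leadingCoeff) (hn : 2 ≤ n) :
    ∃ M : ℕ, ∀ r : ℕ, M ≤ r → P.eval (r : ℚ) < P.eval ((r + 1 : ℕ) : ℚ) := by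
  obtain ⟨t, rfl⟩ : ∃ t, n = t + 1 := ⟨n - 1, by omega⟩
  let Δ := P - P.comp (X - C 1)
  have hpos : 0 < P.coeff (t + 1) := by rwa [← hP, ← leadingCoeff]
  have hΔc : 0 < Δ.coeff t := by
    rw [Groth.Agent.H11Misc.HilbertDeg.coeff_sub_comp hP.le 1]
    positivity
  have hΔd : Δ.natDegree = t := le_antisymm (Groth.Agent.H05EGA4.Samuel.natDegree_sub_comp_le hP.le 1)
    (le_natDegree_of_ne_zero hΔc.ne')
  obtain ⟨M, hM⟩ := Filter.eventually_atTop.1
    (((Polynomial.tendsto_atTop_of_leadingCoeff_nonneg Δ (natDegree_pos_iff_degree_pos.1 (by omega))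
      (by rw [leadingCoeff, hΔd]; exact hΔc.le)).comp
      tendsto_natCast_atTop_atTop).eventually (Filter.eventually_gt_atTop (0 : ℚ)))
  refine ⟨M, fun r hr => ?_⟩
  have h := hM (r + 1) (by omega)
  simp only [Function.comp, Δ, eval_sub, eval_comp, eval_X, eval_C] at h
  rw [show ((r + 1 : ℕ) : ℚ) - 1 = (r : ℚ) by push_cast; ring] at h
  linarith

theorem exists_params {n : ℕ} (Hf : ℕ → ℕ) {P : ℚ[X]} (hP : P.natDegree = n) (hlc : 0 < P.leadingCoeff)
    (hcond : 2 < n ∨ (n = 2 ∧ 2 < P.coeff 2)) {r₀ : ℕ} (hH : ∀ r : ℕ, r₀ ≤ r → P.eval (r : ℚ) = Hf r) :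
    ∃ s₀ : ℕ, ∀ s, s₀ ≤ s → ∃ r c d e : ℕ,
      c + d + Hf r ≤ Hf (r + 1) ∧ Hf (r + 1) + e = s + c ∧ n * s < c * d := by
  obtain ⟨hgd, hgl⟩ := gap_pos hP hlc hcond
  obtain ⟨M, hM⟩ := Filter.eventually_atTop.1
    (((Polynomial.tendsto_atTop_of_leadingCoeff_nonneg (gap n P) (natDegree_pos_iff_degree_pos.1 hgd) hgl.le).comp
      tendsto_natCast_atTop_atTop).eventually (Filter.eventually_gt_atTop (0 : ℚ)))
  have key : ∀ r, max M r₀ ≤ r → 4 * (n : ℚ) * Hf (r + 2) + 2 < ((Hf (r + 1) : ℚ) - Hf r) ^ 2 := fun r hr => by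
    have h := hM (r + 1) (by omega)
    simp only [Function.comp, gap, eval_sub, eval_pow, eval_mul, eval_C, eval_comp, eval_X, eval_add] at h
    rw [hH (r + 1) (by omega), show ((r + 1 : ℕ) : ℚ) + 1 = ((r + 2 : ℕ) : ℚ) by push_cast; ring,
      show ((r + 1 : ℕ) : ℚ) - 1 = (r : ℚ) by push_cast; ring, hH (r + 2) (by omega), hH r (by omega)] at h
    linarith
  obtain ⟨M', hM'⟩ := eventually_increasing hP hlc (by rcases hcond with h | ⟨h, -⟩ <;> omega)
  let R := max (max M r₀) M'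
  have hstrict : ∀ r, R ≤ r → Hf r < Hf (r + 1) := fun r hr => by
    have h := hM' r (by omega)
    rw [hH r (by omega), hH (r + 1) (by omega)] at h
    exact_mod_cast h
  have hunb : ∀ i, i ≤ Hf (R + i) := fun i => by
    induction i with
    | zero => exact Nat.zero_le _
    | succ i ih =>
      have := hstrict (R + i) (by omega)
      show i + 1 ≤ Hf (R + i + 1)
      omega
  refine ⟨Hf (R + 1), fun s hs => ?_⟩
  have hex : ∃ i, s < Hf (R + 1 + i) := ⟨s + 1, by
    have h1 := hunb (s + 2)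
    rw [show R + (s + 2) = R + 1 + (s + 1) by omega] at h1
    omega⟩
  obtain ⟨j, hj⟩ : ∃ j, Nat.find hex = j + 1 := Nat.exists_eq_succ_of_ne_zero (fun h0 => by
    have h1 := Nat.find_spec hex
    rw [h0, add_zero] at h1
    omega)
  have h1 := Nat.find_spec hex
  rw [hj] at h1
  have h2 : Hf (R + 1 + j) ≤ s := not_lt.1 (Nat.find_min hex (by omega))
  set r := R + j with hr
  rw [show R + 1 + j = r + 1 by omega] at h2
  rw [show R + 1 + (j + 1) = r + 2 by omega] at h1
  have hlt := hstrict r (by omega)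
  have hk := key r (by omega)
  obtain ⟨h, hh⟩ : ∃ h, Hf (r + 1) = Hf r + h := Nat.exists_eq_add_of_le hlt.le
  refine ⟨r, h / 2, h - h / 2, s + h / 2 - Hf (r + 1), by omega, by omega, ?_⟩
  have hk' : 4 * n * Hf (r + 2) + 2 < h ^ 2 := by
    rw [hh] at hk
    push_cast at hk
    rw [add_sub_cancel_left] at hk
    exact_mod_cast hk
  have hb : h * h ≤ 4 * (h / 2 * (h - h / 2)) + 1 := by
    obtain ⟨i, rfl⟩ | ⟨i, rfl⟩ := Nat.even_or_odd h
    · rw [show (i + i) / 2 = i by omega, show i + i - i = i by omega]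
      ring_nf
      omega
    · rw [show (2 * i + 1) / 2 = i by omega, show 2 * i + 1 - i = i + 1 by omega]
      ring_nf
      omega
  have hs' : n * s ≤ n * Hf (r + 2) := Nat.mul_le_mul_left n h1.le
  rw [pow_two] at hk'
  rw [mul_assoc] at hk'
  omega

end Groth.Agent.H27ConeHilb.Numerics
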