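import Groth.Agent.H27Fogarty.TanChart
import Groth.Agent.H27CurveHilb.Points
import Mathlib

/-! # Tangent spaces of Hilbert schemes at reduced subschemes -/

set_option autoImplicit false
set_option linter.style.haveILetI false
set_option backward.isDefEq.respectTransparency false
set_option backward.isDefEq.respectTransparency.types false

universe u

open CategoryTheory CategoryTheory.Limits AlgebraicGeometry TensorProduct CommRingCat TopologicalSpace

namespace Groth.Agent.H27ConeHilb

open H27HilbOps H27HilbAff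
open H27Fogarty

section Alg

variable {k : Type u} [Field k] {B : Type u} [CommRing B] [Algebra k B]

/-- The cotangent space at a rational point is finite dimensional. -/
theorem finite_cotangent [IsNoetherianRing B] (x : B →ₐ[k] k) :
    Module.Finite k (RingHom.ker x).Cotangent := by
  haveI : Module.Finite k (B ⧸ RingHom.ker x) :=
    Module.Finite.equiv (Ideal.quotientKerAlgEquivOfSurjective (f := x)
      fun c => ⟨algebraMap k B c, x.commutes c⟩).toLinearEquiv.symm
  haveI : Module.Finite (B ⧸ RingHom.ker x) (RingHom.ker x).Cotangent :=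
    Module.Finite.of_restrictScalars_finite B _ _
  haveI : IsScalarTower k (B ⧸ RingHom.ker x) (RingHom.ker x).Cotangent :=
    IsScalarTower.of_algebraMap_smul fun r c => by
      obtain ⟨z, rfl⟩ := Ideal.toCotangent_surjective _ c
      rw [IsScalarTower.algebraMap_apply k B (B ⧸ RingHom.ker x)]
      show algebraMap k B r • (RingHom.ker x).toCotangent z = r • (RingHom.ker x).toCotangent z
      rw [algebraMap_smul]
  exact Module.Finite.trans (B ⧸ RingHom.ker x) _

theorem exists_sep {s : ℕ} (x : Fin s → (B →ₐ[k] k)) (hx : Function.Injective x) (i : Fin s) :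
    ∃ g : B, x i g = 1 ∧ ∀ j, j ≠ i → x j g = 0 := by
  classical
  have h : ∀ j, ∃ g : B, x i g = 1 ∧ (j ≠ i → x j g = 0) := fun j => by
    by_cases hji : j = i
    · exact ⟨1, map_one _, fun h => absurd hji h⟩
    obtain ⟨b, hb⟩ : ∃ b, x i b ≠ x j b := by
      by_contra hc
      push Not at hc
      exact hji (hx (AlgHom.ext fun b => (hc b).symm))
    refine ⟨(x i b - x j b)⁻¹ • (b - algebraMap k B (x j b)), ?_, fun _ => by simp⟩
    simp only [map_smul, map_sub, AlgHom.commutes, Algebra.algebraMap_self, RingHom.id_apply, smul_eq_mul]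
    exact inv_mul_cancel₀ (sub_ne_zero.2 hb)
  choose g hg1 hg0 using h
  refine ⟨∏ j, g j, by simp [map_prod, hg1], fun j hj => ?_⟩
  rw [map_prod]
  exact Finset.prod_eq_zero (Finset.mem_univ j) (hg0 j hj)

/-- `Hom(I, B/I)` for the ideal of distinct rational points. -/
theorem finrank_hom_points [IsNoetherianRing B] {s : ℕ} (x : Fin s → (B →ₐ[k] k)) (hx : Function.Injective x)
    (I : Ideal B) (hI : I = ⨅ i, RingHom.ker (x i)) {D : ℕ}
    (hD : ∀ i, Module.finrank k (RingHom.ker (x i)).Cotangent ≤ D) :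
    Module.Finite k (↥I →ₗ[B] B ⧸ I) ∧ Module.finrank k (↥I →ₗ[B] B ⧸ I) ≤ s * D := by
  classical
  have hle : ∀ i, I ≤ RingHom.ker (x i) := fun i => hI.le.trans (iInf_le _ i)
  let xb : ∀ i, (B ⧸ I) →ₐ[k] k := fun i =>
    Ideal.Quotient.liftₐ I (x i) fun b hb => RingHom.mem_ker.1 (hle i hb)
  have hxb : ∀ i b, xb i (Ideal.Quotient.mk I b) = x i b := fun i b => rfl
  let ι : ∀ i, ↥I →ₗ[k] (RingHom.ker (x i)).Cotangent := fun i =>
    ((RingHom.ker (x i)).toCotangent.comp (Submodule.inclusion (hle i))).restrictScalars k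
  let G : (↥I →ₗ[B] B ⧸ I) →ₗ[k] (∀ _ : Fin s, Module.Dual k ↥I) :=
    { toFun := fun φ i => (xb i).toLinearMap.comp (φ.restrictScalars k)
      map_add' := fun φ ψ => funext fun i => LinearMap.ext fun z => map_add (xb i) _ _
      map_smul' := fun a φ => funext fun i => LinearMap.ext fun z => map_smul (xb i) _ _ }
  have hG : Function.Injective G := fun φ ψ h => LinearMap.ext fun z => by
    obtain ⟨a, ha⟩ := Ideal.Quotient.mk_surjective (φ z)
    obtain ⟨b, hb⟩ := Ideal.Quotient.mk_surjective (ψ z)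
    rw [← ha, ← hb, Ideal.Quotient.eq, hI, Ideal.mem_iInf]
    intro i
    have h1 : xb i (φ z) = xb i (ψ z) := LinearMap.congr_fun (congrFun h i) z
    rw [← ha, ← hb, hxb, hxb] at h1
    rw [RingHom.mem_ker, map_sub, h1, sub_self]
  let E : (∀ i : Fin s, Module.Dual k (RingHom.ker (x i)).Cotangent) →ₗ[k] (∀ _ : Fin s, Module.Dual k ↥I) :=
    LinearMap.pi fun i => (ι i).dualMap.comp (LinearMap.proj i)
  have hrange : LinearMap.range G ≤ LinearMap.range E := by
    rintro _ ⟨φ, rfl⟩
    have h : ∀ i, G φ i ∈ LinearMap.range (ι i).dualMap := fun i => by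
      rw [LinearMap.range_dualMap_eq_dualAnnihilator_ker, Submodule.mem_dualAnnihilator]
      intro z hz
      obtain ⟨g, hg1, hg0⟩ := exists_sep x hx i
      have hz2 : (z : B) ∈ RingHom.ker (x i) ^ 2 := ((RingHom.ker (x i)).toCotangent_eq_zero _).1 hz
      have key : ∀ y ∈ RingHom.ker (x i) * RingHom.ker (x i), ∃ h : g * y ∈ I, xb i (φ ⟨g * y, h⟩) = 0 := by
        intro y hy
        induction hy using Submodule.mul_induction_on' with
        | mem_mul_mem a ha b hb =>
          have hmem : g * b ∈ I := by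
            rw [hI, Ideal.mem_iInf]
            intro j
            by_cases hj : j = i
            · subst hj; exact Ideal.mul_mem_left _ _ hb
            · exact Ideal.mul_mem_right _ _ (hg0 j hj)
          have hmem' : g * (a * b) ∈ I := by rw [mul_left_comm]; exact Ideal.mul_mem_left _ _ hmem
          refine ⟨hmem', ?_⟩
          rw [show (⟨g * (a * b), hmem'⟩ : ↥I) = a • ⟨g * b, hmem⟩ from Subtype.ext (mul_left_comm _ _ _), map_smul,
            Algebra.smul_def, Ideal.Quotient.algebraMap_eq, map_mul, hxb, RingHom.mem_ker.1 ha, zero_mul]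
        | add y _ y' _ hy hy' =>
          obtain ⟨h, h0⟩ := hy
          obtain ⟨h', h0'⟩ := hy'
          refine ⟨by rw [mul_add]; exact add_mem h h', ?_⟩
          rw [show (⟨g * (y + y'), _⟩ : ↥I) = ⟨g * y, h⟩ + ⟨g * y', h'⟩ from Subtype.ext (mul_add _ _ _), map_add,
            map_add, h0, h0', add_zero]
      obtain ⟨h, h0⟩ := key z.1 (by rw [← pow_two]; exact hz2)
      rw [show (⟨g * z.1, h⟩ : ↥I) = g • z from rfl, map_smul, Algebra.smul_def, Ideal.Quotient.algebraMap_eq, map_mul,
        hxb, hg1, one_mul] at h0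
      exact h0
    choose w hw using h
    exact ⟨w, funext fun i => hw i⟩
  haveI := fun i => finite_cotangent (x i)
  haveI : Module.Finite k (LinearMap.range E) := inferInstance
  have hfin : Module.Finite k (↥I →ₗ[B] B ⧸ I) :=
    Module.Finite.of_injective ((Submodule.inclusion hrange).comp G.rangeRestrict)
      ((Submodule.inclusion_injective hrange).comp fun a b e => hG (congrArg Subtype.val e))
  refine ⟨hfin, ?_⟩
  rw [← LinearMap.finrank_range_of_inj hG]
  refine (Submodule.finrank_mono hrange).trans ((LinearMap.finrank_range_le E).trans ?_)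
  rw [Module.finrank_pi_fintype]
  refine (Finset.sum_le_sum fun i _ => ?_).trans (by rw [Finset.sum_const, Finset.card_univ, Fintype.card_fin, smul_eq_mul])
  rw [Subspace.dual_finrank_eq]
  exact hD i

end Alg

variable {k : Type u} [Field k] [IsAlgClosed k] {X : Scheme.{u}} (f : X ⟶ Spec (CommRingCat.of k))
  [IsSeparated f] [LocallyOfFiniteType f]

/-- The cotangent space of `Hilb^n` at a point given by an ideal of an affine chart. -/
theorem cotangent_le_of_hom {n D : ℕ} {H : Over (Spec (CommRingCat.of k))} [LocallyOfFiniteType H.hom]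
    (Z : HilbD.Obj f n H) (hZ : HilbD.IsUniversal f n H Z) {B : Type u} [CommRing B] [Algebra k B]
    [Algebra.FiniteType k B] (j : Spec (CommRingCat.of B) ⟶ X) [IsOpenImmersion j]
    (hw : j ≫ f = fB (R := k) (B := B) (𝟙 (Spec (CommRingCat.of k))) ≫ 𝟙 (Spec (CommRingCat.of k)))
    (I' : Ideal B) [Module.Finite k (B ⧸ I')] (hn : Module.finrank k (B ⧸ I') = n)
    [Module.Finite k (↥I' →ₗ[B] B ⧸ I')] (hD : Module.finrank k (↥I' →ₗ[B] B ⧸ I') ≤ D) :
    ∃ a : TP k k ⟶ H,
      Module.finrank (IsLocalRing.ResidueField (H.left.presheaf.stalk (a.left (IsLocalRing.closedPoint k))))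
        (IsLocalRing.CotangentSpace (H.left.presheaf.stalk (a.left (IsLocalRing.closedPoint k)))) ≤ D := by
  classical
  haveI : IsNoetherianRing B := Algebra.FiniteType.isNoetherianRing k B
  let e : ((k ⊗[k] B) ⧸ ext k I') ≃ₐ[k] k ⊗[k] (B ⧸ I') :=
    (Ideal.quotientEquivAlgOfEq k (ker_qI k I').symm).trans
      (Ideal.quotientKerAlgEquivOfSurjective (qI_surjective k I'))
  have hrk : Module.Finite k ((k ⊗[k] B) ⧸ ext k I') ∧ Module.Free k ((k ⊗[k] B) ⧸ ext k I') ∧
      Module.finrank k ((k ⊗[k] B) ⧸ ext k I') = n :=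
    ⟨Module.Finite.equiv e.toLinearEquiv.symm, inferInstance, by
      rw [e.toLinearEquiv.finrank_eq, (TensorProduct.lid k (B ⧸ I')).finrank_eq, hn]⟩
  obtain ⟨a, ha, -⟩ := hZ _ (famObj f j hw _ hrk)
  refine ⟨a, ?_⟩
  set h := a.left (IsLocalRing.closedPoint k) with hh
  have hEj : Set.range ((pullObj f a Z).1.subschemeι ≫ pullback.fst f (TP k k).hom) ⊆ Set.range j := by
    have h1 := H27CurveHilb.range_fam_subset f j hw hrk
    rw [show fam f j hw (ext k I') = (pullObj f a Z).1 from ha.symm] at h1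
    exact h1
  obtain ⟨P, _, _, _, g, _, K, _, Z', χ, hK, hχ, hpull⟩ := exists_tan_chart f Z a j hw hEj
  let l := Algebra.TensorProduct.lid k B
  have hev : ∀ u, Tangent.ev χ u = l (bc χ u) := fun u => by
    induction u using TensorProduct.induction_on with
    | zero => simp
    | tmul p b => simp [l]
    | add x y hx hy => simp only [map_add, hx, hy]
  let I : Ideal B := K.map (Tangent.ev χ)
  have hIK : I = (K.map (bc χ)).map (l : k ⊗[k] B →+* B) := by
    rw [Ideal.map_map]
    exact congrArg (fun ψ : P ⊗[k] B →+* B => Ideal.map ψ K) (RingHom.ext hev)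
  have hI : (K.map (bc χ)) = ext k I' := by
    have hfam : fam f j hw (K.map (bc χ)) = fam f j hw (ext k I') :=
      ((hpull χ).symm.trans (congrArg (fun c => HilbD.pull f c Z.1) hχ)).trans ha
    refine H27CurveHilb.fam_injective f j hw (n := n) ?_ hrk hfam
    have hd : Mor2.IsFinLocFreeOfDeg n ((famOf (𝟙 (Spec (CommRingCat.of k))) (K.map (bc χ))).subschemeι ≫
        PicF.XTproj (fB (R := k) (B := B) (𝟙 _)) (TA (𝟙 _) k)) := by
      rw [← pull_famOf, hK]
      exact isFinLocFreeOfDeg_pull _ _ _ Z'.2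
    obtain ⟨f1, f2⟩ := of_deg_famOf _ hd
    exact ⟨f1, inferInstance, f2⟩
  have hII : I = I' := by
    rw [hIK, hI]
    refine (Ideal.map_map _ _).trans ?_
    refine Eq.trans (congrArg (fun ψ : B →+* B => Ideal.map ψ I') (RingHom.ext fun b => ?_)) (Ideal.map_id I')
    show l ((1 : k) ⊗ₜ[k] b) = b
    simp [l]
  clear_value I
  subst hII
  obtain ⟨hfinC, hC⟩ := Tangent.finrank_cotangent_le K (χ := χ) (I := I)
    (hIK.trans (by rw [Ideal.map_map]; exact congrArg (fun ψ : P ⊗[k] B →+* B => Ideal.map ψ K) (RingHom.ext hev).symm)).symm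
    fun ψ ψ' e => by
    have e' : TPmap ψ ≫ g = TPmap ψ' ≫ g :=
      (hZ _ ⟨HilbD.pull f (TPmap ψ ≫ g) Z.1, (pullObj f _ Z).2⟩).unique rfl
        (by show HilbD.pull f (TPmap ψ' ≫ g) Z.1 = HilbD.pull f (TPmap ψ ≫ g) Z.1; rw [hpull, hpull, e])
    have e'' : Spec.map (ofHom ψ.toRingHom) ≫ g.left = Spec.map (ofHom ψ'.toRingHom) ≫ g.left :=
      congrArg CommaMorphism.left e'
    exact AlgHom.coe_ringHom_injective (congrArg CommRingCat.Hom.hom (Spec.map_injective ((cancel_mono _).1 e'')))
  have hC' : Module.finrank k (RingHom.ker χ).Cotangent ≤ D := hC.trans hD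
  set m := RingHom.ker χ with hm
  haveI hmax : m.IsMaximal := RingHom.ker_isMaximal_of_surjective χ fun c => ⟨algebraMap k P c, χ.commutes c⟩
  have hbij : Function.Bijective (algebraMap k (P ⧸ m)) := by
    refine ⟨(algebraMap k (P ⧸ m)).injective, fun q => ?_⟩
    obtain ⟨p, rfl⟩ := Ideal.Quotient.mk_surjective q
    exact ⟨χ p, (Ideal.Quotient.mk_eq_mk_iff_sub_mem _ _).2 (by simp [m, RingHom.mem_ker])⟩
  have hfr : Module.finrank (P ⧸ m) m.Cotangent = Module.finrank k m.Cotangent := by
    refine (H25SmVar.finrank_eq_of_equiv_equiv (algebraMap k (P ⧸ m)) (AddEquiv.refl _) hbij fun r c => ?_).symm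
    show r • c = algebraMap k (P ⧸ m) r • c
    obtain ⟨z, rfl⟩ := Ideal.toCotangent_surjective _ c
    rw [Tangent.smul_toCotangent, map_smul, IsScalarTower.algebraMap_apply k P (P ⧸ m)]
    rfl
  let q : PrimeSpectrum P := ⟨m, hmax.isPrime⟩
  have hq : g.left q = h := by
    have e1 : (TPmap χ).left (IsLocalRing.closedPoint k) = q := by
      apply PrimeSpectrum.ext
      show (IsLocalRing.maximalIdeal k).comap χ.toRingHom = RingHom.ker χ
      rw [IsLocalRing.maximalIdeal_eq_bot]
      rfl
    rw [hh, ← hχ]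
    show _ = g.left ((TPmap χ).left (IsLocalRing.closedPoint k))
    rw [e1]
  let es : H.left.presheaf.stalk h ≃+* Localization.AtPrime m :=
    (H.left.presheaf.stalkCongr (.of_eq hq.symm)).commRingCatIsoToRingEquiv.trans
      ((asIso (Scheme.Hom.stalkMap g.left q)).commRingCatIsoToRingEquiv.trans (Spec.stalkIso (CommRingCat.of P) q).commRingCatIsoToRingEquiv)
  haveI : IsNoetherianRing (H.left.presheaf.stalk h) := isNoetherianRing_of_ringEquiv _ es.symm
  rw [← IsLocalRing.spanFinrank_maximalIdeal_eq_finrank_cotangentSpace,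
    ← Ideal.spanFinrank_map_eq_of_ringEquiv es,
    IsLocalRing.map_ringEquiv_maximalIdeal es,
    IsLocalRing.spanFinrank_maximalIdeal_eq_finrank_cotangentSpace, H25SmVar.finrank_cotangentSpace_localization, hfr]
  exact hC'

end Groth.Agent.H27ConeHilb
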