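import Groth.Agent.H27ConeHilb.Cone
import Groth.Agent.H27ConeHilb.Tangent
import Groth.Agent.H27ConeHilb.Numerics
import Groth.Agent.H27Fogarty.FiniteType
import Groth.Agent.H8Props.FieldDimFormula
import Groth.Agent.H05EGA4.J2
import Groth.Agent.H25SmVar.Basic
import Mathlib

/-! # Hilbert schemes of many points on a cone are reducible -/

set_option autoImplicit false
set_option linter.style.haveILetI false
set_option backward.isDefEq.respectTransparency false
set_option backward.isDefEq.respectTransparency.types false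

universe u

open CategoryTheory CategoryTheory.Limits AlgebraicGeometry TensorProduct CommRingCat TopologicalSpace

namespace Groth.Agent.H27ConeHilb

open H27HilbOps H27HilbAff H27CurveHilb
open H27Fogarty
open Groth.Agent.H8Props.FieldDim (cdim)

variable {k : Type u} [Field k]

/-- The cotangent space of a rational point is that of the local ring. -/
theorem finrank_cotangent_eq {B : Type u} [CommRing B] [Algebra k B] (x : B →ₐ[k] k)
    [(RingHom.ker x).IsMaximal] :
    Module.finrank k (RingHom.ker x).Cotangent =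
      Module.finrank (IsLocalRing.ResidueField (Localization.AtPrime (RingHom.ker x)))
        (IsLocalRing.CotangentSpace (Localization.AtPrime (RingHom.ker x))) := by
  rw [H25SmVar.finrank_cotangentSpace_localization]
  have hbij : Function.Bijective (algebraMap k (B ⧸ RingHom.ker x)) := by
    refine ⟨(algebraMap k (B ⧸ RingHom.ker x)).injective, fun q => ?_⟩
    obtain ⟨p, rfl⟩ := Ideal.Quotient.mk_surjective q
    exact ⟨x p, (Ideal.Quotient.mk_eq_mk_iff_sub_mem _ _).2 (by simp [RingHom.mem_ker])⟩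
  refine H25SmVar.finrank_eq_of_equiv_equiv (algebraMap k (B ⧸ RingHom.ker x)) (AddEquiv.refl _) hbij fun r c => ?_
  show r • c = algebraMap k (B ⧸ RingHom.ker x) r • c
  obtain ⟨z, rfl⟩ := Ideal.toCotangent_surjective _ c
  rw [IsScalarTower.algebraMap_apply k B (B ⧸ RingHom.ker x)]
  show r • (RingHom.ker x).toCotangent z = algebraMap k B r • (RingHom.ker x).toCotangent z
  rw [algebraMap_smul]

variable [IsAlgClosed k]

/-- A variety has infinitely many regular rational points. -/
theorem infinite_regular_points (B : Type u) [CommRing B] [IsDomain B] [Algebra k B] [Algebra.FiniteType k B]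
    {n : ℕ} (hn : 1 ≤ n) (hdim : ringKrullDim B = n) :
    {x : B →ₐ[k] k | Module.finrank k (RingHom.ker x).Cotangent ≤ n}.Infinite := by
  classical
  haveI : IsNoetherianRing B := Algebra.FiniteType.isNoetherianRing k B
  haveI : FaithfulSMul k B := (faithfulSMul_iff_algebraMap_injective _ _).2 (algebraMap k B).injective
  obtain ⟨U, hU, ⟨p, hp⟩, hUreg⟩ := H05EGA4.isJ0_of_finiteType k B fun A' _ _ _ _ _ =>
    H05EGA4.isJ0_of_isField (isField_of_isIntegral_of_isField' (R := k) (Field.toIsField k))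
  obtain ⟨_, ⟨g, rfl⟩, hpg, hgU⟩ := PrimeSpectrum.isTopologicalBasis_basic_opens.exists_subset_of_mem_open hp hU
  have hg : g ≠ 0 := fun h => hpg (h ▸ p.asIdeal.zero_mem)
  haveI : IsJacobsonRing B := isJacobsonRing_of_finiteType (A := k)
  -- the maximal ideals avoiding `g`
  have hinf : {m : Ideal B | m.IsMaximal ∧ g ∉ m}.Infinite := by
    intro hfin
    have hne : ∀ m ∈ hfin.toFinset, ∃ a ∈ m, a ≠ 0 := fun m hm => by
      have hmax := (hfin.mem_toFinset.1 hm).1
      refine Submodule.exists_mem_ne_zero_of_ne_bot fun hb => ?_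
      have hfield : IsField B := not_not.1 fun h => Ring.ne_bot_of_isMaximal_of_not_isField hmax h hb
      rw [ringKrullDim_eq_zero_of_isField hfield] at hdim
      have : n = 0 := by exact_mod_cast hdim.symm
      omega
    choose a ha ha0 using hne
    let P := ∏ m : hfin.toFinset, a m.1 m.2
    have hP : P * g ∈ Ring.jacobson B := by
      rw [Ring.jacobson_eq_sInf_isMaximal, Submodule.mem_sInf]
      intro m hm
      by_cases hgm : g ∈ m
      · exact Ideal.mul_mem_left _ _ hgm
      · have hm' : m ∈ hfin.toFinset := hfin.mem_toFinset.2 ⟨hm, hgm⟩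
        refine Ideal.mul_mem_right _ _ ?_
        rw [show P = ∏ m : hfin.toFinset, a m.1 m.2 from rfl,
          ← Finset.mul_prod_erase Finset.univ (fun m : hfin.toFinset => a m.1 m.2) (Finset.mem_univ ⟨m, hm'⟩)]
        exact Ideal.mul_mem_right _ _ (ha m hm')
    have hj : Ring.jacobson B = ⊥ := by
      rw [← Ideal.jacobson_bot]
      exact isJacobsonRing_iff.1 inferInstance _ (Ideal.IsPrime.isRadical Ideal.isPrime_bot)
    rw [hj, Submodule.mem_bot] at hP
    rcases mul_eq_zero.1 hP with h | h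
    · exact Finset.prod_ne_zero_iff.2 (fun m _ => ha0 _ _) h
    · exact hg h
  have hpt : ∀ m ∈ {m : Ideal B | m.IsMaximal ∧ g ∉ m}, ∃ x : B →ₐ[k] k,
      RingHom.ker x = m ∧ Module.finrank k (RingHom.ker x).Cotangent ≤ n := by
    rintro m ⟨hm, hgm⟩
    haveI := hm
    letI := Ideal.Quotient.field m
    haveI : Algebra.FiniteType k (B ⧸ m) :=
      Algebra.FiniteType.of_surjective (Ideal.Quotient.mkₐ k m) Ideal.Quotient.mk_surjective
    haveI : Module.Finite k (B ⧸ m) := finite_of_finite_type_of_isJacobsonRing k _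
    let e : k ≃ₐ[k] B ⧸ m := AlgEquiv.ofBijective (Algebra.ofId k (B ⧸ m))
      IsAlgClosed.algebraMap_bijective_of_isIntegral
    let x : B →ₐ[k] k := e.symm.toAlgHom.comp (Ideal.Quotient.mkₐ k m)
    have hx : RingHom.ker x = m := by
      ext b
      rw [RingHom.mem_ker]
      show e.symm (Ideal.Quotient.mk m b) = 0 ↔ _
      rw [map_eq_zero_iff _ e.symm.injective, Ideal.Quotient.eq_zero_iff_mem]
    refine ⟨x, hx, ?_⟩
    clear_value x
    clear e
    subst hx
    have hreg : IsRegularLocalRing (Localization.AtPrime (RingHom.ker x)) := hUreg (hgU (show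
      (⟨RingHom.ker x, hm.isPrime⟩ : PrimeSpectrum B) ∈ (PrimeSpectrum.basicOpen g : Set _) from hgm))
    rw [finrank_cotangent_eq, ← IsLocalRing.spanFinrank_maximalIdeal_eq_finrank_cotangentSpace]
    have h1 := (isRegularLocalRing_iff _).1 hreg
    have h2 : ringKrullDim (Localization.AtPrime (RingHom.ker x)) ≤ n := by
      rw [IsLocalization.AtPrime.ringKrullDim_eq_height (RingHom.ker x), ← hdim]
      exact Ideal.height_le_ringKrullDim_of_ne_top hm.ne_top
    rw [← h1] at h2
    exact_mod_cast h2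
  choose x hx hx' using hpt
  refine Set.infinite_of_injOn_mapsTo (s := {m : Ideal B | m.IsMaximal ∧ g ∉ m})
    (f := fun m => if h : m.IsMaximal ∧ g ∉ m then x m h else Classical.choice ⟨x _ hinf.nonempty.some_mem⟩) ?_ ?_ hinf
  · intro m hm m' hm' e
    have hm0 : m.IsMaximal ∧ g ∉ m := hm
    have hm0' : m'.IsMaximal ∧ g ∉ m' := hm'
    simp only [dif_pos hm0, dif_pos hm0'] at e
    rw [← hx m hm, ← hx m' hm', e]
  · intro m hm
    have hm0 : m.IsMaximal ∧ g ∉ m := hm
    simp only [dif_pos hm0]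
    exact hx' m hm

variable {X : Scheme.{u}} (f : X ⟶ Spec (CommRingCat.of k)) [IsSeparated f] {s : ℕ}
  {H : Over (Spec (CommRingCat.of k))} [LocallyOfFiniteType H.hom] (Z : HilbD.Obj f s H)

omit [IsAlgClosed k] in
/-- An ideal over a field descends to the residue field of its point. -/
theorem exists_descend (hZ : HilbD.IsUniversal f s H Z) {B : Type u} [CommRing B] [Algebra k B]
    (j : Spec (CommRingCat.of B) ⟶ X) [IsOpenImmersion j] (hw : j ≫ f = fB (R := k) (B := B) (𝟙 _) ≫ 𝟙 _)
    {K : Type u} [Field K] [Algebra k K] (I : Ideal (K ⊗[k] B))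
    (hI : Module.Finite K ((K ⊗[k] B) ⧸ I) ∧ Module.Free K ((K ⊗[k] B) ⧸ I) ∧
      Module.finrank K ((K ⊗[k] B) ⧸ I) = s) :
    ∃ (h : H.left) (L : Type u) (_ : Field L) (_ : Algebra k L) (φ : L →ₐ[k] K) (JL : Ideal (L ⊗[k] B)),
      JL.map (bc φ) = I ∧ ∃ t : ℕ, cdim h = t ∧ Algebra.trdeg k L = t := by
  obtain ⟨a, ha, -⟩ := hZ _ (famObj f j hw _ hI)
  obtain ⟨L, iL, iLa, φ, b, hb, t, ht, ht'⟩ := exists_residue H a
  let W := pullObj f b Z
  have hpull : HilbD.pull f (TPmap φ) W.1 = fam f j hw I := by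
    show HilbD.pull f (TPmap φ) (HilbD.pull f b Z.1) = _
    rw [← pull_comp, hb, ha, famObj_val]
  have hsupp : ∀ z : W.1.subscheme, (W.1.subschemeι ≫ pullback.fst f (TP k L).hom) z ∈ Set.range j := by
    intro z
    obtain ⟨u, hu⟩ := exists_isPullback_pull f (TPmap φ) W.1
    have hu' := hu.paste_vert (isPullback_XTmap f (TPmap φ))
    haveI : Surjective (TPmap φ).left := ⟨fun q => ⟨IsLocalRing.closedPoint K,
      @Subsingleton.elim (PrimeSpectrum L) inferInstance _ _⟩⟩
    haveI : Surjective u := MorphismProperty.of_isPullback (P := @Surjective) hu'.flip inferInstance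
    obtain ⟨w, rfl⟩ := u.surjective z
    rw [Scheme.Hom.comp_apply, ← fst_pull_ι f (TPmap φ) W.1 hu w]
    have hsub := range_fam_subset f j hw hI
    rw [← hpull] at hsub
    exact hsub ⟨w, Scheme.Hom.comp_apply _ _ _⟩
  obtain ⟨JL, hJL, hJLW⟩ := exists_eq_fam f j hw W hsupp
  refine ⟨_, L, iL, iLa, φ, JL, ?_, t, ht, ht'⟩
  refine fam_injective f j hw (map_rank JL hJL φ) hI ?_
  rw [← pull_fam f j hw JL hJL φ, hJLW, hpull]

variable [LocallyOfFiniteType f]

/-- At distinct regular rational points the local dimension is at most `n s`. -/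
theorem exists_small (hZ : HilbD.IsUniversal f s H Z) {B : Type u} [CommRing B] [IsDomain B] [Algebra k B]
    [Algebra.FiniteType k B] (j : Spec (CommRingCat.of B) ⟶ X) [IsOpenImmersion j]
    (hw : j ≫ f = fB (R := k) (B := B) (𝟙 _) ≫ 𝟙 _) {n : ℕ} (hn : 1 ≤ n) (hdim : ringKrullDim B = n) :
    ∃ h : H.left, ∀ η : H.left, η ⤳ h → cdim η ≤ ((n * s : ℕ) : WithBot ℕ∞) := by
  classical
  haveI : IsNoetherianRing B := Algebra.FiniteType.isNoetherianRing k B
  let pts := (infinite_regular_points (k := k) B hn hdim).natEmbedding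
  let x : Fin s → (B →ₐ[k] k) := fun i => (pts i).1
  have hx : Function.Injective x := fun i i' e => Fin.ext (pts.injective (Subtype.ext e))
  let M : Fin s → Ideal B := fun i => RingHom.ker (x i)
  let I : Ideal B := ⨅ i, M i
  let q : B →ₐ[k] (Fin s → k) := AlgHom.pi x
  have hq : Function.Surjective q := fun v => by
    choose g hg1 hg0 using exists_sep x hx
    refine ⟨∑ i, v i • g i, funext fun i => ?_⟩
    show x i _ = v i
    rw [map_sum, Finset.sum_eq_single i (fun j _ hj => by rw [map_smul, hg0 j i (Ne.symm hj), smul_zero])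
      (by simp), map_smul, hg1, smul_eq_mul, mul_one]
  have hker : I = RingHom.ker q := by
    ext b
    simp [I, M, q, RingHom.mem_ker, funext_iff]
  let e : (B ⧸ I) ≃ₐ[k] (Fin s → k) :=
    (Ideal.quotientEquivAlgOfEq k hker).trans (Ideal.quotientKerAlgEquivOfSurjective hq)
  haveI : Module.Finite k (B ⧸ I) := Module.Finite.equiv e.toLinearEquiv.symm
  obtain ⟨hfin, hD⟩ := finrank_hom_points x hx I rfl (D := n) fun i => (pts i).2
  haveI := hfin
  obtain ⟨a, ha⟩ := cotangent_le_of_hom f Z hZ j hw I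
    (by rw [e.toLinearEquiv.finrank_eq, Module.finrank_fintype_fun_eq_card, Fintype.card_fin]) hD
  refine ⟨a.left (IsLocalRing.closedPoint k), fun η hη => ?_⟩
  set h := a.left (IsLocalRing.closedPoint k)
  haveI : IsLocallyNoetherian H.left := LocallyOfFiniteType.isLocallyNoetherian H.hom
  haveI : JacobsonSpace H.left := LocallyOfFiniteType.jacobsonSpace H.hom
  obtain ⟨L, iL, iLa, φ, b, hb, t, ht, ht'⟩ := exists_residue H a
  have ht0 : t = 0 := by
    have := trdeg_le_of_injective φ φ.toRingHom.injective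
    rw [ht', trdeg_eq_zero (R := k) (A := k), nonpos_iff_eq_zero, Nat.cast_eq_zero] at this
    exact this
  have h0 : cdim h = 0 := by rw [ht, ht0]; rfl
  have h1 : cdim η ≤ ringKrullDim (H.left.presheaf.stalk h) := by
    rw [← add_zero (ringKrullDim _), ← h0, ← H8Props.FieldDim.localDim_eq_stalk_add_cdim H.hom h,
      H8Props.FieldDim.localDim_eq H.hom h]
    exact le_iSup (fun η : {η : H.left // η ⤳ h} => cdim η.1) ⟨η, hη⟩
  refine h1.trans ((ringKrullDim_le_spanFinrank_maximalIdeal _).trans ?_)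
  rw [IsLocalRing.spanFinrank_maximalIdeal_eq_finrank_cotangentSpace, mul_comm]
  exact_mod_cast ha

omit [LocallyOfFiniteType f] in
/-- Generic layers at the vertex give a point of dimension at least `c d`. -/
theorem exists_big (hZ : HilbD.IsUniversal f s H Z) {B : Type u} [CommRing B] [IsDomain B] [Algebra k B]
    [Algebra.FiniteType k B] (j : Spec (CommRingCat.of B) ⟶ X) [IsOpenImmersion j]
    (hw : j ≫ f = fB (R := k) (B := B) (𝟙 _) ≫ 𝟙 _) {N : ℕ} (π : MvPolynomial (Fin N) k →ₐ[k] B)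
    (hπ : IsConePres π) {n : ℕ} (hn : 1 ≤ n) (hdim : ringKrullDim B = n) {r c d e : ℕ}
    (h₁ : c + d + Module.finrank k (piece π r) ≤ Module.finrank k (piece π (r + 1)))
    (h₂ : Module.finrank k (piece π (r + 1)) + e = s + c) :
    ∃ h : H.left, ((c * d : ℕ) : WithBot ℕ∞) ≤ cdim h := by
  classical
  obtain ⟨S, hS⟩ := exists_layer hπ r c d h₁
  obtain ⟨ε, hε⟩ := exists_eps hπ
  have hinf := ((infinite_regular_points (k := k) B hn hdim).sdiff (Set.finite_singleton ε))
  let pts := hinf.natEmbedding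
  let x₀ : Fin (e + 1) → (B →ₐ[k] k) := Fin.cons ε fun i => (pts i).1
  have hne : ∀ i, (pts i).1 ≠ ε := fun i h => (pts i).2.2 h
  have hx₀ : Function.Injective x₀ := Fin.cons_injective_iff.2 ⟨by rintro ⟨i, hi⟩; exact hne i hi,
    fun i i' h => Fin.ext (pts.injective (Subtype.ext h))⟩
  obtain ⟨w, hw1, hw0⟩ := exists_sep x₀ hx₀ 0
  let g : B := 1 - (1 - w) ^ (r + 2)
  haveI : Module.Finite k (B ⧸ S.I₀) := by rw [hS]; exact (finite_quot hπ (r + 1)).1
  have hg0 : Ideal.Quotient.mk S.I₀ g = 1 := by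
    rw [← map_one (Ideal.Quotient.mk S.I₀), Ideal.Quotient.eq, hS]
    simp only [g, sub_sub_cancel_left, neg_mem_iff]
    refine (Ideal.map_pow π (MvPolynomial.idealOfVars (Fin N) k) (r + 2)).ge (Ideal.pow_mem_pow ?_ _)
    obtain ⟨P, hP⟩ := hπ.surj (1 - w)
    rw [← hP]
    refine Ideal.mem_map_of_mem π ?_
    rw [← pow_one (MvPolynomial.idealOfVars (Fin N) k), MvPolynomial.mem_pow_idealOfVars_iff]
    intro α hα
    rw [Nat.one_le_iff_ne_zero, ne_eq, Finsupp.degree_eq_zero_iff]
    rintro rfl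
    rw [MvPolynomial.mem_support_iff, ← MvPolynomial.constantCoeff_eq, ← hε, hP, map_sub, map_one,
      show ε w = 1 from hw1, sub_self] at hα
    exact hα rfl
  let K := FractionRing (MvPolynomial (Fin c × Fin d) k)
  let T : Fin c × Fin d → K := fun q => algebraMap (MvPolynomial (Fin c × Fin d) k) K (MvPolynomial.X q)
  have hT : AlgebraicIndependent k T :=
    (MvPolynomial.algebraicIndependent_X (Fin c × Fin d) k).map'
      (f := IsScalarTower.toAlgHom k (MvPolynomial (Fin c × Fin d) k) K) (IsFractionRing.injective _ K)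
  let χ : Fin e → (B →ₐ[k] K) := fun i => (Algebra.ofId k K).comp (pts i).1
  have hχ : Function.Injective χ := fun i i' h => Fin.ext (pts.injective (Subtype.ext (AlgHom.ext fun b =>
    (algebraMap k K).injective (DFunLike.congr_fun h b))))
  have hgχ : ∀ i, χ i g = 0 := fun i => by
    have h0 : (pts i).1 w = 0 := hw0 i.succ (Fin.succ_ne_zero i)
    show algebraMap k K ((pts i).1 g) = 0
    simp [g, h0]
  obtain ⟨hf, hfree, hr⟩ := fullIdeal_quot S g χ hg0 hgχ hχ T
  rw [hS, (finite_quot hπ (r + 1)).2] at hr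
  obtain ⟨h, L, iL, iLa, φ, JL, hJ, t, ht, ht'⟩ :=
    exists_descend f Z hZ j hw _ (⟨hf, hfree, by omega⟩ : _ ∧ _ ∧ _ = s)
  exact ⟨h, ht ▸ Nat.cast_le.2 (mul_le_trdeg S g χ hg0 hgχ hχ hT φ JL hJ ht')⟩

omit Z [IsSeparated f] [LocallyOfFiniteType f] [LocallyOfFiniteType H.hom] in
/-- The Hilbert schemes of many points on a cone are reducible. -/
theorem exists_not_irreducible [IsSeparated f] [LocallyOfFiniteType f]
    (haff : ∀ (d : ℕ) (x : Fin d → X), ∃ U : X.Opens, IsAffineOpen U ∧ ∀ i, x i ∈ U)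
    {B : Type u} [CommRing B] [IsDomain B] [Algebra k B] [Algebra.FiniteType k B]
    (j : Spec (CommRingCat.of B) ⟶ X) [IsOpenImmersion j] (hw : j ≫ f = fB (R := k) (B := B) (𝟙 _) ≫ 𝟙 _)
    {N : ℕ} (π : MvPolynomial (Fin N) k →ₐ[k] B) (hπ : IsConePres π) {n : ℕ} (hdim : ringKrullDim B = n)
    (hcond : ∀ P : Polynomial ℚ, P.natDegree = n →
      (∃ r₀ : ℕ, ∀ r : ℕ, r₀ ≤ r → P.eval (r : ℚ) = Module.finrank k (piece π r)) →
        2 < n ∨ (n = 2 ∧ 2 < P.coeff 2)) :
    ∃ s₀ : ℕ, ∀ s : ℕ, s₀ ≤ s → ∀ (H : Over (Spec (CommRingCat.of k))) (Z : HilbD.Obj f s H),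
      HilbD.IsUniversal f s H Z → ¬ IrreducibleSpace ↥H.left := by
  obtain ⟨P, hP, hlc, r₀, hr₀⟩ := exists_hilb_cone hπ hdim
  have hc := hcond P hP ⟨r₀, hr₀⟩
  obtain ⟨s₀, hs₀⟩ := Numerics.exists_params (fun r => Module.finrank k (piece π r)) hP hlc hc hr₀
  have hn : 1 ≤ n := by rcases hc with h | ⟨h, -⟩ <;> omega
  refine ⟨s₀, fun s hs H Z hZ hirr => ?_⟩
  obtain ⟨r, c, d, e, h₁, h₂, h₃⟩ := hs₀ s hs
  haveI := locallyOfFiniteType f (haff s) H Z hZ
  obtain ⟨p, hp⟩ := exists_small f Z hZ j hw hn hdim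
  obtain ⟨h, hh⟩ := exists_big f Z hZ j hw π hπ hn hdim h₁ h₂
  have hg : ∀ z : H.left, genericPoint H.left ⤳ z := fun z => genericPoint_specializes z
  have h4 : ((c * d : ℕ) : WithBot ℕ∞) ≤ ((n * s : ℕ) : WithBot ℕ∞) :=
    hh.trans ((H8Props.FieldDim.dim_mono (hg h).closure_subset).trans (hp _ (hg p)))
  exact absurd (Nat.cast_le.1 h4) (by omega)

end Groth.Agent.H27ConeHilb
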